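import Groth.Agent.Comod.Basic

set_option autoImplicit false
universe u v

open TensorProduct

namespace Groth.Agent.Comod

variable {k : Type u} [Field k] {C : Type v} [AddCommGroup C] [Module k C] [Coalgebra k C]

theorem coalg_mixed (φ ψ : C →ₗ[k] k) (c : C) :
    slR φ (Coalgebra.comul (R := k) (slL ψ (Coalgebra.comul (R := k) c))) =
      slL ψ (Coalgebra.comul (R := k) (slR φ (Coalgebra.comul (R := k) c))) := by
  let G : C ⊗[k] (C ⊗[k] C) →ₗ[k] C := slL ψ ∘ₗ (slR φ).lTensor C
  have h1 : ∀ x : C ⊗[k] C, slR φ (Coalgebra.comul (R := k) (slL ψ x)) =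
      G ((Coalgebra.comul (R := k) (A := C)).lTensor C x) := by
    intro x
    induction x with
    | zero => simp
    | tmul a b => simp [G]
    | add y z hy hz => simp only [map_add, hy, hz]
  have h3 : ∀ (y : C ⊗[k] C) (b : C), φ b • slL ψ y = G (TensorProduct.assoc k C C C (y ⊗ₜ b)) := by
    intro y b
    induction y with
    | zero => simp
    | tmul u a => simp [G, smul_smul, mul_comm]
    | add y z hy hz => simp only [map_add, smul_add, add_tmul, hy, hz]
  have h2 : ∀ x : C ⊗[k] C, slL ψ (Coalgebra.comul (R := k) (slR φ x)) =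
      G (TensorProduct.assoc k C C C ((Coalgebra.comul (R := k) (A := C)).rTensor C x)) := by
    intro x
    induction x with
    | zero => simp
    | tmul a b => rw [slR_tmul, map_smul, map_smul, h3]; rfl
    | add y z hy hz => simp only [map_add, hy, hz]
  rw [h1, h2, Coalgebra.coassoc_apply]

theorem coalg_left (φ ψ : C →ₗ[k] k) (c : C) :
    slL φ (Coalgebra.comul (R := k) (slL ψ (Coalgebra.comul (R := k) c))) =
      slL (conv ψ φ) (Coalgebra.comul (R := k) c) := by
  let G : C ⊗[k] (C ⊗[k] C) →ₗ[k] C := slL ψ ∘ₗ (slL φ).lTensor C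
  have h1 : ∀ x : C ⊗[k] C, slL φ (Coalgebra.comul (R := k) (slL ψ x)) =
      G ((Coalgebra.comul (R := k) (A := C)).lTensor C x) := by
    intro x
    induction x with
    | zero => simp
    | tmul a b => simp [G]
    | add y z hy hz => simp only [map_add, hy, hz]
  have h3 : ∀ (y : C ⊗[k] C) (b : C),
      (TensorProduct.lid k k (TensorProduct.map ψ φ y)) • b = G (TensorProduct.assoc k C C C (y ⊗ₜ b)) := by
    intro y b
    induction y with
    | zero => simp
    | tmul u a => simp [G, smul_smul, mul_comm]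
    | add y z hy hz => simp only [map_add, add_smul, add_tmul, hy, hz]
  have h2 : ∀ x : C ⊗[k] C, slL (conv ψ φ) x =
      G (TensorProduct.assoc k C C C ((Coalgebra.comul (R := k) (A := C)).rTensor C x)) := by
    intro x
    induction x with
    | zero => simp
    | tmul a b => rw [slL_tmul, LinearMap.rTensor_tmul, ← h3]; rfl
    | add y z hy hz => simp only [map_add, hy, hz]
  rw [h1, h2, Coalgebra.coassoc_apply]

/-- a subspace stable under both contractions is a subcoalgebra -/
theorem comul_mem_range_map {B : Submodule k C}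
    (hR : ∀ φ : C →ₗ[k] k, ∀ b ∈ B, slR φ (Coalgebra.comul (R := k) b) ∈ B)
    (hL : ∀ φ : C →ₗ[k] k, ∀ b ∈ B, slL φ (Coalgebra.comul (R := k) b) ∈ B) {b : C} (hb : b ∈ B) :
    Coalgebra.comul (R := k) b ∈ LinearMap.range (TensorProduct.map B.subtype B.subtype) := by
  obtain ⟨y, hy⟩ := mem_range_rTensor_of_slR_mem (M := B) (x := Coalgebra.comul (R := k) b) fun φ => hR φ b hb
  obtain ⟨r, hr⟩ := LinearMap.exists_leftInverse_of_injective B.subtype (Submodule.ker_subtype B)
  have hsw : ∀ (z : C ⊗[k] C) (φ : C →ₗ[k] k), slR φ (TensorProduct.comm k C C z) = slL φ z := by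
    intro z φ
    induction z with
    | zero => simp
    | tmul a b => simp
    | add y z hy hz => simp only [map_add, hy, hz]
  obtain ⟨z, hz⟩ := mem_range_rTensor_of_slR_mem (M := B)
    (x := TensorProduct.comm k C C (Coalgebra.comul (R := k) b)) fun φ => by rw [hsw]; exact hL φ b hb
  refine ⟨(r.rTensor B) (TensorProduct.comm k B C z), ?_⟩
  have e1 : ∀ z : B ⊗[k] C, B.subtype.lTensor C (TensorProduct.comm k B C z) =
      TensorProduct.comm k C C (B.subtype.rTensor C z) := by
    intro z
    induction z with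
    | zero => simp
    | tmul a b => simp
    | add y z hy hz => simp only [map_add, hy, hz]
  have e2 : ∀ w : C ⊗[k] B, TensorProduct.map B.subtype B.subtype (r.rTensor B w) =
      (B.subtype ∘ₗ r).rTensor C (B.subtype.lTensor C w) := by
    intro w
    induction w with
    | zero => simp
    | tmul a b => simp
    | add y z hy hz => simp only [map_add, hy, hz]
  rw [e2, e1, hz]
  have e3 : ∀ (w : C ⊗[k] C), TensorProduct.comm k C C (TensorProduct.comm k C C w) = w := by
    intro w
    induction w with
    | zero => simp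
    | tmul a b => simp
    | add y z hy hz => simp only [map_add, hy, hz]
  rw [e3, ← hy, ← LinearMap.comp_apply, ← LinearMap.rTensor_comp, LinearMap.comp_assoc, hr,
    LinearMap.comp_id]

variable (k C) in
/-- the bilinear contraction `(ψ, w) ↦ (ψ ⊗ id) (Δ w)` -/
noncomputable def leftAct : (C →ₗ[k] k) →ₗ[k] C →ₗ[k] C :=
  LinearMap.mk₂ k (fun ψ w => slL ψ (Coalgebra.comul (R := k) w))
    (fun ψ₁ ψ₂ w => by simp [slL, LinearMap.rTensor_add])
    (fun c ψ w => by simp [slL, LinearMap.rTensor_smul])
    (fun ψ w₁ w₂ => by simp)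
    (fun c ψ w => by simp)

/-- fundamental theorem of coalgebras -/
theorem exists_finite_subcoalgebra (s : Set C) (hs : s.Finite) :
    ∃ B : Submodule k C, Module.Finite k B ∧ s ⊆ B ∧
      ∀ b ∈ B, Coalgebra.comul (R := k) b ∈ LinearMap.range (TensorProduct.map B.subtype B.subtype) := by
  classical
  obtain ⟨W, hWf, hsW, hW⟩ := exists_finite_subcomod (k := k) (A := C) (V := C) s hs
  obtain ⟨t, ht⟩ := Module.Finite.iff_fg.1 hWf
  let B : Submodule k C := ⨆ w : t, LinearMap.range ((leftAct k C).flip (w : C))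
  have hmem : ∀ (ψ : C →ₗ[k] k), ∀ w ∈ W, slL ψ (Coalgebra.comul (R := k) w) ∈ B := by
    intro ψ w hw
    rw [← ht] at hw
    refine Submodule.span_le (p := B.comap (leftAct k C ψ)).2 (fun x hx => ?_) hw
    exact Submodule.mem_iSup_of_mem (⟨x, hx⟩ : t) ⟨ψ, rfl⟩
  have hrep : ∀ b ∈ B, ∀ φ : C →ₗ[k] k,
      slR φ (Coalgebra.comul (R := k) b) ∈ B ∧ slL φ (Coalgebra.comul (R := k) b) ∈ B := by
    intro b hb φ
    induction hb using Submodule.iSup_induction' with
    | mem i x hx =>
      obtain ⟨ψ, rfl⟩ := hx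
      have hi : (i : C) ∈ W := ht ▸ Submodule.subset_span i.2
      refine ⟨?_, ?_⟩
      · show slR φ (Coalgebra.comul (R := k) (slL ψ (Coalgebra.comul (R := k) (i : C)))) ∈ B
        rw [coalg_mixed]
        exact hmem _ _ (IsSubcomod.actL_mem hW φ hi)
      · show slL φ (Coalgebra.comul (R := k) (slL ψ (Coalgebra.comul (R := k) (i : C)))) ∈ B
        rw [coalg_left]
        exact hmem _ _ hi
    | zero => simp
    | add x y _ _ hx hy => simp only [map_add]; exact ⟨add_mem hx.1 hy.1, add_mem hx.2 hy.2⟩
  refine ⟨B, ?_, fun x hx => ?_, fun b hb =>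
    comul_mem_range_map (fun φ c hc => (hrep c hc φ).1) (fun φ c hc => (hrep c hc φ).2) hb⟩
  · have : ∀ w : t, Module.Finite k (LinearMap.range ((leftAct k C).flip (w : C))) := fun w => by
      obtain ⟨M, hM, h⟩ := exists_fg_slL_mem (V := C) (Coalgebra.comul (R := k) (w : C))
      have : Module.Finite k M := Module.Finite.iff_fg.2 hM
      have hle : LinearMap.range ((leftAct k C).flip (w : C)) ≤ M := by rintro _ ⟨ψ, rfl⟩; exact h ψ
      exact Module.Finite.of_injective (Submodule.inclusion hle) (Submodule.inclusion_injective _)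
    infer_instance
  · have : slL (Coalgebra.counit (R := k)) (Coalgebra.comul (R := k) x) = x := by simp [slL]
    rw [← this]; exact hmem _ _ (hsW hx)

end Groth.Agent.Comod
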