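import Groth.Agent.Comod.Along
import Mathlib.LinearAlgebra.TensorProduct.RightExactness

set_option autoImplicit false
universe u v v' w w'

open TensorProduct WithConv

namespace Groth.Agent.Comod

variable {k : Type u} [Field k] {C : Type v} [AddCommGroup C] [Module k C]
variable {V : Type w} [AddCommGroup V] [Module k V]

theorem ext_slL {x y : V ⊗[k] C} (h : ∀ ψ : V →ₗ[k] k, slL ψ x = slL ψ y) : x = y := by
  apply (TensorProduct.comm k V C).injective
  apply ext_slR
  intro ψ
  have hc : ∀ z : V ⊗[k] C, slR ψ (TensorProduct.comm k V C z) = slL ψ z := by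
    intro z
    induction z with
    | zero => simp
    | tmul a b => simp
    | add y z hy hz => simp only [map_add, hy, hz]
  rw [hc, hc, h]

theorem eq_zero_of_slL_eq_zero {x : V ⊗[k] C} (h : ∀ ψ : V →ₗ[k] k, slL ψ x = 0) : x = 0 :=
  ext_slL fun ψ => by rw [h ψ, map_zero]

theorem slL_mem_of_mem_range {D : Submodule k C} {x : V ⊗[k] C}
    (h : x ∈ LinearMap.range (D.subtype.lTensor V)) (ψ : V →ₗ[k] k) : slL ψ x ∈ D := by
  obtain ⟨y, rfl⟩ := h
  rw [slL_lTensor]
  exact Submodule.coe_mem _

/-- membership in the image of an `lTensor`, tested on functionals of the left factor -/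
theorem mem_range_lTensor_of_slL {D : Submodule k C} {x : V ⊗[k] C}
    (h : ∀ ψ : V →ₗ[k] k, slL ψ x ∈ D) : x ∈ LinearMap.range (D.subtype.lTensor V) := by
  have h0 : D.mkQ.lTensor V x = 0 := eq_zero_of_slL_eq_zero fun ψ => by
    rw [slL_lTensor, Submodule.mkQ_apply, Submodule.Quotient.mk_eq_zero]
    exact h ψ
  exact ((lTensor_exact V (LinearMap.exact_subtype_mkQ D) D.mkQ_surjective) x).1 h0

theorem mem_range_lTensor_iff {D : Submodule k C} {x : V ⊗[k] C} :
    x ∈ LinearMap.range (D.subtype.lTensor V) ↔ ∀ ψ : V →ₗ[k] k, slL ψ x ∈ D :=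
  ⟨slL_mem_of_mem_range, mem_range_lTensor_of_slL⟩

/-- membership in the image of an `lTensor`, tested on functionals killing the image -/
theorem mem_range_lTensor_iff_annihilator {C' : Type v'} [AddCommGroup C'] [Module k C']
    (i : C' →ₗ[k] C) {x : V ⊗[k] C} :
    x ∈ LinearMap.range (i.lTensor V) ↔ ∀ φ : C →ₗ[k] k, φ ∘ₗ i = 0 → slR φ x = 0 := by
  refine ⟨?_, fun h => ?_⟩
  · rintro ⟨y, rfl⟩ φ hφ
    rw [slR_lTensor, hφ]
    simp [slR]
  have h0 : (LinearMap.range i).mkQ.lTensor V x = 0 := eq_zero_of_slR_eq_zero fun φ => by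
    rw [slR_lTensor]
    exact h _ (LinearMap.ext fun c => by
      simp [(Submodule.Quotient.mk_eq_zero _).2 (LinearMap.mem_range_self i c)])
  exact ((lTensor_exact V (LinearMap.exact_map_mkQ_range i) (LinearMap.range i).mkQ_surjective) x).1 h0

section Coalg

variable [Coalgebra k C]

/-- a subspace whose comultiplication stays in its tensor square -/
def IsSubcoalg (B : Submodule k C) : Prop :=
  ∀ b ∈ B, CoalgebraStruct.comul (R := k) b ∈ LinearMap.range (TensorProduct.map B.subtype B.subtype)

theorem IsSubcoalg.slR_mem {B : Submodule k C} (hB : IsSubcoalg B) (φ : C →ₗ[k] k) {b : C} (hb : b ∈ B) :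
    slR φ (Coalgebra.comul (R := k) b) ∈ B := by
  obtain ⟨y, hy⟩ := hB b hb
  rw [← hy]
  clear hy
  induction y with
  | zero => simp
  | tmul p q => simp [B.smul_mem]
  | add y z hy hz => simpa only [map_add] using add_mem hy hz

theorem IsSubcoalg.slL_mem {B : Submodule k C} (hB : IsSubcoalg B) (φ : C →ₗ[k] k) {b : C} (hb : b ∈ B) :
    slL φ (Coalgebra.comul (R := k) b) ∈ B := by
  obtain ⟨y, hy⟩ := hB b hb
  rw [← hy]
  clear hy
  induction y with
  | zero => simp
  | tmul p q => simp [B.smul_mem]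
  | add y z hy hz => simpa only [map_add] using add_mem hy hz

theorem slR_counit_comul (c : C) : slR (Coalgebra.counit (R := k)) (Coalgebra.comul (R := k) c) = c :=
  actL_counit (A := C) c

theorem slL_counit_comul (c : C) : slL (Coalgebra.counit (R := k)) (Coalgebra.comul (R := k) c) = c := by
  simp [slL]

theorem IsSubcoalg.eq_bot_of_counit {B : Submodule k C} (hB : IsSubcoalg B)
    (h : ∀ b ∈ B, Coalgebra.counit (R := k) b = 0) : B = ⊥ := by
  rw [Submodule.eq_bot_iff]
  intro b hb
  obtain ⟨y, hy⟩ := hB b hb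
  rw [← slR_counit_comul (k := k) b, ← hy]
  clear hy
  induction y with
  | zero => simp
  | tmul p q => simp [h q q.2]
  | add y z hy hz => simp only [map_add, hy, hz, add_zero]

theorem isSubcoalg_of_slR_slL {B : Submodule k C}
    (hR : ∀ φ : C →ₗ[k] k, ∀ b ∈ B, slR φ (Coalgebra.comul (R := k) b) ∈ B)
    (hL : ∀ φ : C →ₗ[k] k, ∀ b ∈ B, slL φ (Coalgebra.comul (R := k) b) ∈ B) : IsSubcoalg B :=
  fun _ hb => comul_mem_range_map hR hL hb

theorem IsSubcoalg.inf {B B' : Submodule k C} (h : IsSubcoalg B) (h' : IsSubcoalg B') :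
    IsSubcoalg (B ⊓ B') :=
  isSubcoalg_of_slR_slL (fun φ _ hb => ⟨h.slR_mem φ hb.1, h'.slR_mem φ hb.2⟩)
    (fun φ _ hb => ⟨h.slL_mem φ hb.1, h'.slL_mem φ hb.2⟩)

theorem IsSubcoalg.isSubcomod {B : Submodule k C} (h : IsSubcoalg B) :
    HopfRep.IsSubcomod (k := k) (A := C) B :=
  isSubcomod_iff.2 fun φ _ hb => h.slR_mem φ hb

variable [HopfRep.Comod k C V]

theorem coeffMap_mem_coeff (ψ : V →ₗ[k] k) (v : V) : coeffMap (C := C) ψ v ∈ coeff k C V :=
  Submodule.subset_span ⟨ψ, v, rfl⟩

theorem coact_mem_range_coeff (v : V) :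
    HopfRep.Comod.coact (k := k) (A := C) v ∈ LinearMap.range ((coeff k C V).subtype.lTensor V) :=
  mem_range_lTensor_of_slL fun ψ => coeffMap_mem_coeff ψ v

theorem coeff_le_iff {D : Submodule k C} :
    coeff k C V ≤ D ↔
      ∀ v : V, HopfRep.Comod.coact (k := k) (A := C) v ∈ LinearMap.range (D.subtype.lTensor V) := by
  refine ⟨fun h v => mem_range_lTensor_of_slL fun ψ => h (coeffMap_mem_coeff ψ v), fun h => ?_⟩
  rw [coeff, Submodule.span_le]
  rintro _ ⟨ψ, v, rfl⟩
  exact slL_mem_of_mem_range (h v) ψ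

theorem isLeast_coeff :
    IsLeast {D : Submodule k C |
      ∀ v : V, HopfRep.Comod.coact (k := k) (A := C) v ∈ LinearMap.range (LinearMap.lTensor V D.subtype)}
      (coeff k C V) :=
  ⟨coact_mem_range_coeff, fun _ h => coeff_le_iff.2 h⟩

theorem isSubcoalg_coeff : IsSubcoalg (coeff k C V) := by
  refine isSubcoalg_of_slR_slL (fun φ b hb => ?_) (fun φ b hb => ?_)
  · induction hb using Submodule.span_induction with
    | mem x hx =>
      obtain ⟨ψ, v, rfl⟩ := hx
      show actL (A := C) φ (coeffMap (C := C) ψ v) ∈ _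
      rw [← IsComodHom.map_actL (isComodHom_coeffMap ψ)]
      exact coeffMap_mem_coeff ψ _
    | zero => simp
    | add x y _ _ hx hy => simpa only [map_add] using add_mem hx hy
    | smul c x _ hx => simpa only [map_smul] using Submodule.smul_mem _ c hx
  · induction hb using Submodule.span_induction with
    | mem x hx =>
      obtain ⟨ψ, v, rfl⟩ := hx
      have h := LinearMap.congr_fun (isComodHom_coeffMap (C := C) ψ) v
      simp only [LinearMap.comp_apply] at h
      rw [coeffMap_apply] at h
      show slL φ (HopfRep.Comod.coact (k := k) (A := C) (slL ψ (HopfRep.Comod.coact (k := k) (A := C) v))) ∈ _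
      rw [h, slL_rTensor]
      exact coeffMap_mem_coeff _ v
    | zero => simp
    | add x y _ _ hx hy => simpa only [map_add] using add_mem hx hy
    | smul c x _ hx => simpa only [map_smul] using Submodule.smul_mem _ c hx

theorem coeff_le_of_injective {W : Type w'} [AddCommGroup W] [Module k W] [HopfRep.Comod k C W]
    {f : V →ₗ[k] W} (hf : Hoch.IsComodHom C f) (hinj : Function.Injective f) :
    coeff k C V ≤ coeff k C W := by
  rw [coeff_le_iff]
  refine fun v => mem_range_lTensor_of_slL fun ψ => ?_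
  obtain ⟨g, hg⟩ := LinearMap.exists_leftInverse_of_injective f (LinearMap.ker_eq_bot.2 hinj)
  have h := LinearMap.congr_fun hf v
  simp only [LinearMap.comp_apply] at h
  have : slL ψ (HopfRep.Comod.coact (k := k) (A := C) v) = coeffMap (ψ ∘ₗ g) (f v) := by
    rw [coeffMap_apply, h, slL_rTensor, LinearMap.comp_assoc, hg, LinearMap.comp_id]
  rw [this]
  exact coeffMap_mem_coeff _ _

theorem coeff_le_of_surjective {W : Type w'} [AddCommGroup W] [Module k W] [HopfRep.Comod k C W]
    {f : V →ₗ[k] W} (hf : Hoch.IsComodHom C f) (hsurj : Function.Surjective f) :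
    coeff k C W ≤ coeff k C V := by
  rw [coeff_le_iff]
  intro w
  obtain ⟨v, rfl⟩ := hsurj w
  refine mem_range_lTensor_of_slL fun ψ => ?_
  have h := LinearMap.congr_fun hf v
  simp only [LinearMap.comp_apply] at h
  rw [h, slL_rTensor]
  exact coeffMap_mem_coeff _ v

theorem coeff_ne_bot [Nontrivial V] : coeff k C V ≠ ⊥ := by
  obtain ⟨v, hv⟩ := exists_ne (0 : V)
  obtain ⟨ψ, hψ⟩ := Module.Projective.exists_dual_eq_one k hv
  intro h
  have : coeffMap (C := C) ψ v = 0 := (Submodule.eq_bot_iff _).1 h _ (coeffMap_mem_coeff ψ v)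
  have h2 := counit_coeffMap (C := C) ψ v
  rw [this, map_zero, hψ] at h2
  exact zero_ne_one h2

/-- a subcoalgebra, as a regular comodule, has coefficient space inside itself and contains it -/
theorem coeff_restr_eq {B : Submodule k C} (hB : IsSubcoalg B) :
    @coeff k _ C _ _ _ B _ _ (ComodSub.Comod.restr (HopfRep.Comod.regular k C) B hB.isSubcomod) = B := by
  letI := ComodSub.Comod.restr (HopfRep.Comod.regular k C) B hB.isSubcomod
  refine le_antisymm (Submodule.span_le.2 ?_) fun b hb => ?_
  · rintro _ ⟨ψ, v, rfl⟩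
    obtain ⟨g, hg⟩ := LinearMap.exists_extend ψ
    rw [← hg, ← slL_rTensor, ComodSub.restr_coact_coe]
    exact hB.slL_mem g v.2
  · have : coeffMap (C := C) ((Coalgebra.counit (R := k)) ∘ₗ B.subtype) ⟨b, hb⟩ = b := by
      rw [coeffMap_apply, ← slL_rTensor, ComodSub.restr_coact_coe]
      exact slL_counit_comul b
    rw [← this]
    exact coeffMap_mem_coeff _ _

/-- the coefficient space of a simple comodule is a simple subcoalgebra -/
theorem coeff_le_of_subcoalg (hV : HopfRep.IsSimpleComod k C V) {B : Submodule k C} (hB : IsSubcoalg B)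
    (hle : B ≤ coeff k C V) (h0 : B ≠ ⊥) : coeff k C V ≤ B := by
  haveI := finite_of_isSimpleComod hV
  haveI := isSimpleComod_iff.1 hV
  let J : Set (DualAlg k C) := {φ | ∀ b ∈ B, φ b = 0}
  have hJl : ∀ (χ : DualAlg k C), ∀ φ ∈ J, χ * φ ∈ J := by
    intro χ φ hφ b hb
    obtain ⟨y, hy⟩ := hB b hb
    rw [LinearMap.convMul_apply, ← hy]
    clear hy
    induction y with
    | zero => simp
    | tmul p q => simp [hφ q q.2]
    | add y z hy hz => simp only [map_add, hy, hz, add_zero]
  have hJr : ∀ (χ : DualAlg k C), ∀ φ ∈ J, φ * χ ∈ J := by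
    intro χ φ hφ b hb
    obtain ⟨y, hy⟩ := hB b hb
    rw [LinearMap.convMul_apply, ← hy]
    clear hy
    induction y with
    | zero => simp
    | tmul p q => simp [hφ p p.2]
    | add y z hy hz => simp only [map_add, hy, hz, add_zero]
  by_cases hz : ∀ φ ∈ J, ∀ v : V, φ • v = 0
  · rw [coeff_le_iff]
    intro v
    rw [mem_range_lTensor_iff_annihilator]
    intro φ hφ
    exact hz (toConv φ) (fun b hb => LinearMap.congr_fun hφ ⟨b, hb⟩) v
  · exfalso
    push Not at hz
    obtain ⟨φ1, hφ1, v1, hv1⟩ := hz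
    have hW : ∀ v : V, (∀ φ ∈ J, φ • v = 0) → v = 0 := by
      let W : Submodule (DualAlg k C) V :=
        { carrier := {v | ∀ φ ∈ J, φ • v = 0}
          add_mem' := fun ha hb φ hφ => by rw [smul_add, ha φ hφ, hb φ hφ, add_zero]
          zero_mem' := fun φ _ => smul_zero φ
          smul_mem' := fun χ v hv φ hφ => by rw [← mul_smul]; exact hv _ (hJr χ φ hφ) }
      intro v hv
      rcases eq_bot_or_eq_top W with h | h
      · exact (Submodule.eq_bot_iff _).1 h v hv
      · exact absurd ((h ▸ Submodule.mem_top : v1 ∈ W) φ1 hφ1) hv1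
    let b := Module.finBasis k V
    let F : DualAlg k C →ₗ[DualAlg k C] (Fin (Module.finrank k V) → V) :=
      LinearMap.toSpanSingleton (DualAlg k C) _ fun i => b i
    haveI : IsSemisimpleModule (DualAlg k C) (LinearMap.range F) :=
      IsSemisimpleModule.of_injective (LinearMap.range F).subtype (Submodule.injective_subtype _)
    let J' : Submodule (DualAlg k C) (LinearMap.range F) :=
      { carrier := {x | ∃ φ ∈ J, F φ = x}
        add_mem' := fun ⟨p, hp, hp'⟩ ⟨q, hq, hq'⟩ =>
          ⟨p + q, fun b hb => by simp [hp b hb, hq b hb], by rw [map_add, hp', hq']; rfl⟩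
        zero_mem' := ⟨0, fun _ _ => by simp, by simp⟩
        smul_mem' := fun χ x ⟨p, hp, hp'⟩ =>
          ⟨χ * p, hJl χ p hp, by rw [← smul_eq_mul, map_smul, hp']; rfl⟩ }
    haveI := (isSemisimpleModule_iff (DualAlg k C) (LinearMap.range F)).1 inferInstance
    obtain ⟨K, hK⟩ := exists_isCompl J'
    obtain ⟨j, hj, κ, hκ, hjκ⟩ := Submodule.mem_sup.1
      (hK.sup_eq_top ▸ Submodule.mem_top : (⟨F 1, 1, rfl⟩ : LinearMap.range F) ∈ J' ⊔ K)
    obtain ⟨φ0, hφ0, hφ0j⟩ := hj
    have hκ' : F (1 - φ0) = κ := by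
      have := congrArg (fun x : LinearMap.range F => (x : Fin (Module.finrank k V) → V)) hjκ
      simp only [Submodule.coe_add, ← hφ0j] at this
      rw [map_sub, ← this, add_sub_cancel_left]
    have hfix : ∀ v : V, φ0 • v = v := by
      have hbi : ∀ i, (1 - φ0) • b i = 0 := fun i => hW _ fun φ hφ => by
        have h1 : (⟨F (φ * (1 - φ0)), _, rfl⟩ : LinearMap.range F) ∈ J' :=
          ⟨_, hJr (1 - φ0) φ hφ, rfl⟩
        have h2 : (⟨F (φ * (1 - φ0)), _, rfl⟩ : LinearMap.range F) ∈ K := by
          have : (⟨F (φ * (1 - φ0)), _, rfl⟩ : LinearMap.range F) = φ • κ := Subtype.ext (by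
            rw [Submodule.coe_smul, ← hκ', ← map_smul, smul_eq_mul])
          rw [this]
          exact K.smul_mem φ hκ
        have := congrArg (fun x : LinearMap.range F => (x : Fin (Module.finrank k V) → V) i)
          (Submodule.disjoint_def.1 hK.disjoint _ h1 h2)
        rw [← mul_smul]
        simpa [F] using this
      intro v
      have hv : (1 - φ0) • v = 0 := by
        rw [← b.sum_repr v, Finset.smul_sum]
        exact Finset.sum_eq_zero fun i _ => by rw [smul_comm, hbi, smul_zero]
      rw [sub_smul, one_smul, sub_eq_zero] at hv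
      exact hv.symm
    apply h0
    refine hB.eq_bot_of_counit fun x hx => ?_
    have hx' := hle hx
    have : φ0 x = Coalgebra.counit (R := k) x := by
      clear hx
      induction hx' using Submodule.span_induction with
      | mem y hy =>
        obtain ⟨ψ, v, rfl⟩ := hy
        have h1 : ∀ (φ : C →ₗ[k] k), φ (slL ψ (HopfRep.Comod.coact (k := k) (A := C) v)) = ψ (actL φ v) := by
          intro φ
          rw [actL_apply]
          generalize HopfRep.Comod.coact (k := k) (A := C) v = z
          induction z with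
          | zero => simp
          | tmul p q => simp [mul_comm]
          | add y z hy hz => simp only [map_add, hy, hz]
        rw [show φ0 _ = φ0.ofConv _ from rfl, h1, h1, actL_counit]
        exact congrArg ψ (hfix v)
      | zero => simp
      | add y z _ _ hy hz => simp only [map_add, hy, hz]
      | smul c y _ hy => simp only [map_smul, hy]
    rw [← this]
    exact hφ0 x hx

end Coalg

end Groth.Agent.Comod
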