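import Groth.Agent.Comod.Module

set_option autoImplicit false
universe u v w w' x

open TensorProduct WithConv

namespace Groth.Agent.Comod

section Lattice

variable {α : Type*} [CompleteLattice α] [IsModularLattice α] [IsCompactlyGenerated α]

/-- a complement built out of a given spanning family of atoms -/
theorem exists_sSupIndep_isCompl_of_atoms (T : Set α) (hT : ∀ a ∈ T, IsAtom a) (h : sSup T = ⊤) (b : α) :
    ∃ s : Set α, s ⊆ T ∧ sSupIndep s ∧ IsCompl b (sSup s) := by
  have zorn := zorn_subset
    (S := {s : Set α | sSupIndep s ∧ Disjoint b (sSup s) ∧ s ⊆ T})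
    fun c hc1 hc2 =>
      ⟨⋃₀ c,
        ⟨iSupIndep_sUnion_of_directed hc2.directedOn fun s hs => (hc1 hs).1, by
          rw [sSup_sUnion, ← sSup_image, DirectedOn.disjoint_sSup_right]
          · rintro _ ⟨s, hs, rfl⟩
            exact (hc1 hs).2.1
          · rw [directedOn_image]
            exact hc2.directedOn.mono @fun s t => sSup_le_sSup,
          Set.sUnion_subset fun s hs => (hc1 hs).2.2⟩,
        fun _ => Set.subset_sUnion_of_mem⟩
  obtain ⟨s, hs⟩ := zorn
  obtain ⟨s_ind, hb, hsT⟩ := hs.prop
  refine ⟨s, hsT, s_ind, hb, codisjoint_iff.2 (eq_top_iff.2 ?_)⟩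
  rw [← h]
  refine sSup_le fun a ha => ?_
  by_contra hle
  have con : Disjoint a (b ⊔ sSup s) := disjoint_iff.2 (((hT a ha).le_iff.1 inf_le_left).resolve_right fun h => hle (inf_eq_left.1 h))
  have has : a ∉ s := fun has => hle ((le_sSup has).trans le_sup_right)
  have hins : insert a s ∈ {s : Set α | sSupIndep s ∧ Disjoint b (sSup s) ∧ s ⊆ T} := by
    refine ⟨?_, ?_, Set.insert_subset ha hsT⟩
    · intro x hx
      rcases Set.mem_insert_iff.1 hx with rfl | hx
      · exact (con.mono_right le_sup_right).mono_right (sSup_le_sSup (by simp))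
      · have hne : x ≠ a := fun h => has (h ▸ hx)
        rw [Set.insert_sdiff_of_notMem _ (by simpa using hne.symm), sSup_insert, sup_comm]
        have hd : Disjoint a (x ⊔ sSup (s \ {x})) :=
          (con.mono_right le_sup_right).mono_right
            (sup_le (le_sSup hx) (sSup_le_sSup Set.sdiff_subset))
        exact (s_ind hx).disjoint_sup_right_of_disjoint_sup_left hd.symm
    · rw [sSup_insert, sup_comm]
      exact hb.disjoint_sup_right_of_disjoint_sup_left con.symm
  exact has (hs.le_of_ge hins (Set.subset_insert a s) (Set.mem_insert a s))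

end Lattice

variable {k : Type u} [CommRing k] {A : Type v} [AddCommGroup A] [Module k A] [Coalgebra k A]
variable {V : Type w} [AddCommGroup V] [Module k V] [HopfRep.Comod k A V]

theorem iSupIndep_restrictScalars {ι : Sort*} (f : ι → Submodule (DualAlg k A) V) :
    iSupIndep (fun i => (f i).restrictScalars k) ↔ iSupIndep f := by
  simp only [iSupIndep, ← Submodule.restrictScalars_iSup, Submodule.disjoint_restrictScalars_iff]

theorem iSup_restrictScalars_eq_top {ι : Sort*} (f : ι → Submodule (DualAlg k A) V) :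
    (⨆ i, (f i).restrictScalars k) = ⊤ ↔ (⨆ i, f i) = ⊤ := by
  rw [← Submodule.restrictScalars_iSup, Submodule.restrictScalars_eq_top_iff]

variable [Module.Free k A]

omit [Module.Free k A] in
theorem iSup_toSub_eq_top {ι : Sort*} {S : ι → Submodule k V}
    (hS : ∀ i, HopfRep.IsSubcomod (k := k) (A := A) (S i)) :
    (⨆ i, toSub (hS i)) = ⊤ ↔ (⨆ i, S i) = ⊤ :=
  (iSup_restrictScalars_eq_top fun i => toSub (hS i)).symm

omit [Module.Free k A] in
theorem iSupIndep_toSub {ι : Sort*} {S : ι → Submodule k V}
    (hS : ∀ i, HopfRep.IsSubcomod (k := k) (A := A) (S i)) :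
    iSupIndep (fun i => toSub (hS i)) ↔ iSupIndep S :=
  (iSupIndep_restrictScalars fun i => toSub (hS i)).symm

/-- a sum of simple subcomodules is semisimple -/
theorem isSemisimpleComod_of_iSup_simple {ι : Sort*} (S : ι → Submodule k V)
    (hS : ∀ i, HopfRep.IsSubcomod (k := k) (A := A) (S i))
    (hsimple : ∀ i, S i ≠ ⊥ ∧ ∀ W' : Submodule k V, HopfRep.IsSubcomod (k := k) (A := A) W' →
      W' ≤ S i → W' = ⊥ ∨ W' = S i)
    (hsum : ⨆ i, S i = ⊤) : HopfRep.IsSemisimpleComod k A V := by
  rw [isSemisimpleComod_iff]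
  apply IsSemisimpleModule.of_sSup_simples_eq_top
  rw [eq_top_iff, ← (iSup_toSub_eq_top hS).2 hsum]
  exact iSup_le fun i => le_sSup ((isSimpleModule_toSub_iff (hS i)).2 (hsimple i))

/-- an isomorphism of modules over the dual algebra, as an isomorphism of comodules -/
theorem isComodHom_equiv {W : Type w'} [AddCommGroup W] [Module k W] [HopfRep.Comod k A W]
    (e : V ≃ₗ[DualAlg k A] W) : Hoch.IsComodHom A ((e.restrictScalars k : V ≃ₗ[k] W) : V →ₗ[k] W) :=
  isComodHom_restrictScalars e.toLinearMap

end Groth.Agent.Comod
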