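import Groth.Agent.Comod.Semisimple
import Mathlib.LinearAlgebra.FreeModule.Basic

set_option autoImplicit false
universe u v v' w w'

open TensorProduct WithConv

namespace Groth.Agent.Comod

section Along

variable {k : Type u} [CommRing k] {C : Type v} [AddCommGroup C] [Module k C] [Coalgebra k C]
variable {D : Type v'} [AddCommGroup D] [Module k D] [Coalgebra k D]
variable {V : Type w} [AddCommGroup V] [Module k V]

/-- the comodule over `D` obtained along a morphism of coalgebras -/
@[reducible] noncomputable def along (f : C →ₗc[k] D) (c : HopfRep.Comod k C V) : HopfRep.Comod k D V where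
  coact := (f : C →ₗ[k] D).lTensor V ∘ₗ c.coact
  coassoc := by
    ext v
    have hc := LinearMap.congr_fun c.coassoc v
    simp only [LinearMap.comp_apply, LinearEquiv.coe_coe] at hc ⊢
    have hf : TensorProduct.map (f : C →ₗ[k] D) (f : C →ₗ[k] D) ∘ₗ Coalgebra.comul (R := k) =
        Coalgebra.comul (R := k) ∘ₗ (f : C →ₗ[k] D) := f.map_comp_comul
    calc TensorProduct.assoc k V D D (((f : C →ₗ[k] D).lTensor V ∘ₗ c.coact).rTensor D
          ((f : C →ₗ[k] D).lTensor V (c.coact v)))
        = (TensorProduct.map (f : C →ₗ[k] D) (f : C →ₗ[k] D)).lTensor V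
            (TensorProduct.assoc k V C C (c.coact.rTensor C (c.coact v))) := by
          generalize c.coact v = x
          induction x with
          | zero => simp
          | tmul a b =>
            simp only [LinearMap.lTensor_tmul, LinearMap.rTensor_tmul, LinearMap.comp_apply]
            generalize c.coact a = y
            induction y with
            | zero => simp
            | tmul p q => simp
            | add y z hy hz => simp only [map_add, add_tmul, hy, hz]
          | add y z hy hz => simp only [map_add, hy, hz]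
      _ = _ := by
          rw [hc, ← LinearMap.comp_apply, ← LinearMap.lTensor_comp, hf, LinearMap.lTensor_comp,
            LinearMap.comp_apply]
  counit_comp := by
    rw [← LinearMap.comp_assoc, ← LinearMap.lTensor_comp]
    have : (CoalgebraStruct.counit (R := k) (A := D)) ∘ₗ (f : C →ₗ[k] D) = CoalgebraStruct.counit :=
      f.counit_comp
    rw [this, c.counit_comp]

omit [Coalgebra k C] [Coalgebra k D] in
theorem slR_lTensor (g : C →ₗ[k] D) (φ : D →ₗ[k] k) (x : V ⊗[k] C) :
    slR φ (g.lTensor V x) = slR (φ ∘ₗ g) x := by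
  induction x with
  | zero => simp
  | tmul v a => simp
  | add y z hy hz => simp only [map_add, hy, hz]

omit [Coalgebra k C] [Coalgebra k D] in
theorem slL_lTensor (g : C →ₗ[k] D) (ψ : V →ₗ[k] k) (x : V ⊗[k] C) :
    slL ψ (g.lTensor V x) = g (slL ψ x) := by
  induction x with
  | zero => simp
  | tmul v a => simp
  | add y z hy hz => simp only [map_add, hy, hz]

omit [Coalgebra k C] [Coalgebra k D] in
theorem slL_rTensor {W : Type w'} [AddCommGroup W] [Module k W] (g : V →ₗ[k] W) (ψ : W →ₗ[k] k)
    (x : V ⊗[k] C) : slL ψ (g.rTensor C x) = slL (ψ ∘ₗ g) x := by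
  induction x with
  | zero => simp
  | tmul v a => simp
  | add y z hy hz => simp only [map_add, hy, hz]

variable [HopfRep.Comod k C V]

/-- the coefficient map of a functional -/
noncomputable def coeffMap (ψ : V →ₗ[k] k) : V →ₗ[k] C :=
  slL ψ ∘ₗ HopfRep.Comod.coact (k := k) (A := C)

theorem coeffMap_apply (ψ : V →ₗ[k] k) (v : V) :
    coeffMap (C := C) ψ v = slL ψ (HopfRep.Comod.coact (k := k) (A := C) v) := rfl

theorem isComodHom_coeffMap (ψ : V →ₗ[k] k) : Hoch.IsComodHom C (coeffMap (C := C) ψ) := by
  ext v
  have h := LinearMap.congr_fun (HopfRep.Comod.coassoc (k := k) (A := C) (V := V)) v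
  simp only [LinearMap.comp_apply, LinearEquiv.coe_coe] at h
  show Coalgebra.comul (R := k) (slL ψ (HopfRep.Comod.coact (k := k) (A := C) v)) =
    (coeffMap ψ).rTensor C (HopfRep.Comod.coact (k := k) (A := C) v)
  have h1 : ∀ x : V ⊗[k] C, Coalgebra.comul (R := k) (slL ψ x) =
      slL ψ ((Coalgebra.comul (R := k) (A := C)).lTensor V x) := by
    intro x
    induction x with
    | zero => simp
    | tmul a b => simp
    | add y z hy hz => simp only [map_add, hy, hz]
  rw [h1, ← h]
  generalize HopfRep.Comod.coact (k := k) (A := C) v = x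
  induction x with
  | zero => simp
  | tmul a b =>
    simp only [LinearMap.rTensor_tmul, coeffMap_apply]
    generalize HopfRep.Comod.coact (k := k) (A := C) a = y
    induction y with
    | zero => simp
    | tmul p q => simp [TensorProduct.smul_tmul']
    | add y z hy hz => simp only [map_add, add_tmul, hy, hz]
  | add y z hy hz => simp only [map_add, hy, hz]

theorem counit_coeffMap (ψ : V →ₗ[k] k) (v : V) :
    Coalgebra.counit (R := k) (coeffMap (C := C) ψ v) = ψ v := by
  have h1 : ∀ x : V ⊗[k] C, Coalgebra.counit (R := k) (slL ψ x) = ψ (slR (Coalgebra.counit (R := k)) x) := by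
    intro x
    induction x with
    | zero => simp
    | tmul a b => simp [mul_comm]
    | add y z hy hz => simp only [map_add, hy, hz]
  rw [coeffMap_apply, h1, ← actL_apply, actL_counit]

theorem coeffMap_ne_zero {ψ : V →ₗ[k] k} (h : ψ ≠ 0) : coeffMap (C := C) ψ ≠ 0 := fun h0 => h <| by
  ext v
  rw [← counit_coeffMap (C := C), h0]
  simp

end Along

section Field

variable {k : Type u} [Field k] {C : Type v} [AddCommGroup C] [Module k C] [Coalgebra k C]
variable {D : Type v'} [AddCommGroup D] [Module k D] [Coalgebra k D]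
variable {V : Type w} [AddCommGroup V] [Module k V]

theorem actL_along (f : C →ₗc[k] D) (c : HopfRep.Comod k C V) (φ : D →ₗ[k] k) (v : V) :
    @actL k _ D _ _ _ V _ _ (along f c) φ v = @actL k _ C _ _ _ V _ _ c (φ ∘ₗ (f : C →ₗ[k] D)) v :=
  slR_lTensor _ φ _

theorem isSubcomod_along {c : HopfRep.Comod k C V} (f : C →ₗc[k] D) {M : Submodule k V}
    (h : @HopfRep.IsSubcomod k C _ _ _ _ V _ _ c M) :
    @HopfRep.IsSubcomod k D _ _ _ _ V _ _ (along f c) M := by
  rw [@isSubcomod_iff k _ D _ _ _ V _ _ (along f c)]
  intro φ v hv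
  rw [actL_along]
  exact IsSubcomod.actL_mem h _ hv

theorem isSubcomod_of_along {c : HopfRep.Comod k C V} (f : C →ₗc[k] D)
    (hf : Function.Injective (f : C → D)) {M : Submodule k V}
    (h : @HopfRep.IsSubcomod k D _ _ _ _ V _ _ (along f c) M) :
    @HopfRep.IsSubcomod k C _ _ _ _ V _ _ c M := by
  rw [@isSubcomod_iff k _ C _ _ _ V _ _ c]
  intro φ v hv
  obtain ⟨g, hg⟩ := LinearMap.exists_leftInverse_of_injective (f : C →ₗ[k] D)
    (LinearMap.ker_eq_bot.2 hf)
  have := @IsSubcomod.actL_mem k _ D _ _ _ V _ _ (along f c) M h (φ ∘ₗ g) v hv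
  rwa [actL_along, LinearMap.comp_assoc, hg, LinearMap.comp_id] at this

theorem comod_ext {c c' : HopfRep.Comod k C V} (h : c.coact = c'.coact) : c = c' := by
  cases c; cases c'; cases h; rfl

end Field

end Groth.Agent.Comod
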