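import Mathlib
import Groth.Prelude.Def_Hoch

set_option autoImplicit false
universe u v w w'

open TensorProduct

namespace Groth.Agent.Comod

/-! ## Contractions of tensors against functionals -/

section Slice

variable {k : Type u} [CommRing k] {A : Type v} [AddCommGroup A] [Module k A]
variable {V : Type w} [AddCommGroup V] [Module k V] {W : Type w'} [AddCommGroup W] [Module k W]

/-- contraction of the right factor with a functional -/
noncomputable def slR (φ : A →ₗ[k] k) : V ⊗[k] A →ₗ[k] V :=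
  (TensorProduct.rid k V).toLinearMap ∘ₗ φ.lTensor V

/-- contraction of the left factor with a functional -/
noncomputable def slL (ψ : V →ₗ[k] k) : V ⊗[k] A →ₗ[k] A :=
  (TensorProduct.lid k A).toLinearMap ∘ₗ ψ.rTensor A

@[simp] theorem slR_tmul (φ : A →ₗ[k] k) (v : V) (a : A) : slR φ (v ⊗ₜ a) = φ a • v := by
  simp [slR]

@[simp] theorem slL_tmul (ψ : V →ₗ[k] k) (v : V) (a : A) : slL ψ (v ⊗ₜ a) = ψ v • a := by
  simp [slL]

theorem slR_rTensor (f : V →ₗ[k] W) (φ : A →ₗ[k] k) (x : V ⊗[k] A) :
    slR φ (f.rTensor A x) = f (slR φ x) := by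
  induction x with
  | zero => simp
  | tmul v a => simp
  | add x y hx hy => simp only [map_add, hx, hy]

theorem slR_mem_of_mem_range {M : Submodule k V} {x : V ⊗[k] A}
    (hx : x ∈ LinearMap.range (M.subtype.rTensor A)) (φ : A →ₗ[k] k) : slR φ x ∈ M := by
  obtain ⟨y, rfl⟩ := hx
  rw [slR_rTensor]
  exact Submodule.coe_mem _

theorem exists_fg_slR_mem (x : V ⊗[k] A) :
    ∃ M : Submodule k V, M.FG ∧ ∀ φ : A →ₗ[k] k, slR φ x ∈ M := by
  induction x with
  | zero => exact ⟨⊥, Submodule.fg_bot, fun φ => by simp⟩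
  | tmul v a =>
    exact ⟨Submodule.span k {v}, Submodule.fg_span_singleton v, fun φ => by
      rw [slR_tmul]; exact Submodule.smul_mem _ _ (Submodule.subset_span rfl)⟩
  | add x y hx hy =>
    obtain ⟨M, hM, hx⟩ := hx
    obtain ⟨N, hN, hy⟩ := hy
    exact ⟨M ⊔ N, hM.sup hN, fun φ => by
      rw [map_add]; exact add_mem (Submodule.mem_sup_left (hx φ)) (Submodule.mem_sup_right (hy φ))⟩

theorem exists_fg_slL_mem (x : V ⊗[k] A) :
    ∃ M : Submodule k A, M.FG ∧ ∀ ψ : V →ₗ[k] k, slL ψ x ∈ M := by
  induction x with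
  | zero => exact ⟨⊥, Submodule.fg_bot, fun φ => by simp⟩
  | tmul v a =>
    exact ⟨Submodule.span k {a}, Submodule.fg_span_singleton a, fun φ => by
      rw [slL_tmul]; exact Submodule.smul_mem _ _ (Submodule.subset_span rfl)⟩
  | add x y hx hy =>
    obtain ⟨M, hM, hx⟩ := hx
    obtain ⟨N, hN, hy⟩ := hy
    exact ⟨M ⊔ N, hM.sup hN, fun φ => by
      rw [map_add]; exact add_mem (Submodule.mem_sup_left (hx φ)) (Submodule.mem_sup_right (hy φ))⟩

variable [Module.Free k A]

theorem mem_range_rTensor_of_slR_mem {M : Submodule k V} {x : V ⊗[k] A}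
    (h : ∀ φ : A →ₗ[k] k, slR φ x ∈ M) : x ∈ LinearMap.range (M.subtype.rTensor A) := by
  classical
  let b := Module.Free.chooseBasis k A
  let e := TensorProduct.equivFinsuppOfBasisRight (M := V) b
  have hc : ∀ i (y : V ⊗[k] A), e y i = slR (b.coord i) y := by
    intro i y
    induction y with
    | zero => simp
    | tmul v a => simp [e, Module.Basis.coord_apply]
    | add y z hy hz => simp only [map_add, Finsupp.add_apply, hy, hz]
  rw [← e.symm_apply_apply x, TensorProduct.equivFinsuppOfBasisRight_symm_apply]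
  refine Submodule.sum_mem _ fun i _ => ?_
  exact ⟨(⟨e x i, by rw [hc]; exact h _⟩ : M) ⊗ₜ b i, by simp⟩

theorem eq_zero_of_slR_eq_zero {x : V ⊗[k] A} (h : ∀ φ : A →ₗ[k] k, slR φ x = 0) : x = 0 := by
  obtain ⟨y, rfl⟩ := mem_range_rTensor_of_slR_mem (M := ⊥) (x := x) fun φ => by simp [h φ]
  have : ((⊥ : Submodule k V).subtype) = 0 := Subsingleton.elim _ _
  simp [this]

theorem ext_slR {x y : V ⊗[k] A} (h : ∀ φ : A →ₗ[k] k, slR φ x = slR φ y) : x = y := by
  rw [← sub_eq_zero]; exact eq_zero_of_slR_eq_zero fun φ => by simp [h φ]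

end Slice

/-! ## The action of functionals on a comodule -/

section Act

variable {k : Type u} [CommRing k] {A : Type v} [AddCommGroup A] [Module k A] [Coalgebra k A]
variable {V : Type w} [AddCommGroup V] [Module k V] [HopfRep.Comod k A V]
variable {W : Type w'} [AddCommGroup W] [Module k W] [HopfRep.Comod k A W]

open HopfRep in
/-- the endomorphism of a comodule attached to a functional on the coalgebra -/
noncomputable def actL (φ : A →ₗ[k] k) : V →ₗ[k] V :=
  slR φ ∘ₗ Comod.coact (k := k) (A := A)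

theorem actL_apply (φ : A →ₗ[k] k) (v : V) :
    actL φ v = slR φ (HopfRep.Comod.coact (k := k) (A := A) v) := rfl

/-- convolution product of two functionals -/
noncomputable def conv (φ ψ : A →ₗ[k] k) : A →ₗ[k] k :=
  (TensorProduct.lid k k).toLinearMap ∘ₗ TensorProduct.map φ ψ ∘ₗ Coalgebra.comul (R := k)

theorem actL_counit (v : V) : actL (Coalgebra.counit (R := k) (A := A)) v = v := by
  have h := LinearMap.congr_fun (HopfRep.Comod.counit_comp (k := k) (A := A) (V := V)) v
  simp only [LinearMap.comp_apply, LinearMap.flip_apply, TensorProduct.mk_apply] at h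
  simp [actL, slR, h]

theorem actL_actL (φ ψ : A →ₗ[k] k) (v : V) :
    actL φ (actL ψ v) = actL (conv φ ψ) v := by
  let G : V ⊗[k] (A ⊗[k] A) →ₗ[k] V :=
    (TensorProduct.rid k V).toLinearMap ∘ₗ
      ((TensorProduct.lid k k).toLinearMap ∘ₗ TensorProduct.map φ ψ).lTensor V
  have h2 : ∀ (y : V ⊗[k] A) (b : A), ψ b • slR φ y = G (TensorProduct.assoc k V A A (y ⊗ₜ b)) := by
    intro y b
    induction y with
    | zero => simp
    | tmul u a => simp [G, smul_smul, mul_comm]
    | add y z hy hz => simp only [map_add, smul_add, add_tmul, hy, hz]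
  have h1 : ∀ x : V ⊗[k] A, actL φ (slR ψ x) =
      G (TensorProduct.assoc k V A A ((HopfRep.Comod.coact (k := k) (A := A)).rTensor A x)) := by
    intro x
    induction x with
    | zero => simp
    | tmul u b => rw [slR_tmul, map_smul, actL_apply, h2]; rfl
    | add y z hy hz => simp only [map_add, hy, hz]
  have h3 : ∀ x : V ⊗[k] A, G ((Coalgebra.comul (R := k)).lTensor V x) = slR (conv φ ψ) x := by
    intro x
    induction x with
    | zero => simp
    | tmul u b => simp [G, conv]
    | add y z hy hz => simp only [map_add, hy, hz]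
  rw [actL_apply ψ v, h1]
  have h := LinearMap.congr_fun (HopfRep.Comod.coassoc (k := k) (A := A) (V := V)) v
  simp only [LinearMap.comp_apply, LinearEquiv.coe_coe] at h
  rw [h, h3, ← actL_apply]

theorem IsSubcomod.actL_mem {M : Submodule k V} (hM : HopfRep.IsSubcomod (k := k) (A := A) M)
    (φ : A →ₗ[k] k) {v : V} (hv : v ∈ M) : actL φ v ∈ M :=
  slR_mem_of_mem_range (hM v hv) φ

theorem IsComodHom.map_actL {f : V →ₗ[k] W} (hf : Hoch.IsComodHom A f) (φ : A →ₗ[k] k) (v : V) :
    f (actL φ v) = actL φ (f v) := by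
  have := LinearMap.congr_fun hf v
  simp only [LinearMap.comp_apply] at this
  rw [actL_apply, actL_apply, this, slR_rTensor]

variable [Module.Free k A]

theorem isSubcomod_iff {M : Submodule k V} :
    HopfRep.IsSubcomod (k := k) (A := A) M ↔ ∀ (φ : A →ₗ[k] k), ∀ v ∈ M, actL φ v ∈ M :=
  ⟨fun h φ _ hv => IsSubcomod.actL_mem h φ hv,
    fun h v hv => mem_range_rTensor_of_slR_mem fun φ => h φ v hv⟩

theorem isComodHom_iff {f : V →ₗ[k] W} :
    Hoch.IsComodHom A f ↔ ∀ (φ : A →ₗ[k] k) (v : V), f (actL φ v) = actL φ (f v) := by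
  refine ⟨fun h φ v => IsComodHom.map_actL h φ v, fun h => LinearMap.ext fun v => ext_slR fun φ => ?_⟩
  simp only [LinearMap.comp_apply, slR_rTensor]
  exact (h φ v).symm

theorem isSubcomod_ker {f : V →ₗ[k] W} (hf : Hoch.IsComodHom A f) :
    HopfRep.IsSubcomod (k := k) (A := A) (LinearMap.ker f) :=
  isSubcomod_iff.2 fun φ v hv => by
    rw [LinearMap.mem_ker] at hv ⊢; rw [IsComodHom.map_actL hf, hv, map_zero]

theorem isSubcomod_range {f : V →ₗ[k] W} (hf : Hoch.IsComodHom A f) :
    HopfRep.IsSubcomod (k := k) (A := A) (LinearMap.range f) :=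
  isSubcomod_iff.2 fun φ w hw => by
    obtain ⟨v, rfl⟩ := hw; exact ⟨actL φ v, IsComodHom.map_actL hf φ v⟩

/-- the submodule of all translates of a vector -/
noncomputable def orbitSub (k : Type u) [CommRing k] (A : Type v) [AddCommGroup A] [Module k A]
    [Coalgebra k A] [Module k V] [HopfRep.Comod k A V] (v : V) : Submodule k V :=
  LinearMap.range ({ toFun := fun φ => actL (A := A) φ v
                     map_add' := fun φ ψ => by simp [actL, slR, LinearMap.lTensor_add]
                     map_smul' := fun c φ => by simp [actL, slR, LinearMap.lTensor_smul] } :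
    (A →ₗ[k] k) →ₗ[k] V)

omit [Module.Free k A] in
theorem mem_orbitSub_iff {v x : V} : x ∈ orbitSub k A v ↔ ∃ φ : A →ₗ[k] k, actL φ v = x := Iff.rfl

omit [Module.Free k A] in
theorem self_mem_orbitSub (v : V) : v ∈ orbitSub k A v :=
  mem_orbitSub_iff.2 ⟨_, actL_counit v⟩

theorem isSubcomod_orbitSub (v : V) : HopfRep.IsSubcomod (k := k) (A := A) (orbitSub k A v) :=
  isSubcomod_iff.2 fun φ x hx => by
    obtain ⟨ψ, rfl⟩ := mem_orbitSub_iff.1 hx
    exact mem_orbitSub_iff.2 ⟨_, (actL_actL φ ψ v).symm⟩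

omit [Module.Free k A] in
theorem finite_orbitSub [IsNoetherianRing k] (v : V) : Module.Finite k (orbitSub k A v) := by
  obtain ⟨M, hM, h⟩ := exists_fg_slR_mem (HopfRep.Comod.coact (k := k) (A := A) v)
  have : Module.Finite k M := Module.Finite.iff_fg.2 hM
  have hle : orbitSub k A v ≤ M := fun x hx => by obtain ⟨φ, rfl⟩ := mem_orbitSub_iff.1 hx; exact h φ
  exact Module.Finite.of_injective (Submodule.inclusion hle) (Submodule.inclusion_injective _)

theorem isSubcomod_iSup {ι : Sort*} {M : ι → Submodule k V}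
    (h : ∀ i, HopfRep.IsSubcomod (k := k) (A := A) (M i)) :
    HopfRep.IsSubcomod (k := k) (A := A) (⨆ i, M i) :=
  isSubcomod_iff.2 fun φ v hv => by
    induction hv using Submodule.iSup_induction' with
    | mem i x hx => exact Submodule.mem_iSup_of_mem i (IsSubcomod.actL_mem (h i) φ hx)
    | zero => simp
    | add x y _ _ hx hy => rw [map_add]; exact add_mem hx hy

/-- every finite set of vectors lies in a finite subcomodule -/
theorem exists_finite_subcomod [IsNoetherianRing k] (s : Set V) (hs : s.Finite) :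
    ∃ M : Submodule k V, Module.Finite k M ∧ s ⊆ M ∧ HopfRep.IsSubcomod (k := k) (A := A) M := by
  have := hs.to_subtype
  refine ⟨⨆ v : s, orbitSub k A (v : V), ?_, ?_, isSubcomod_iSup fun v => isSubcomod_orbitSub _⟩
  · haveI : ∀ v : s, Module.Finite k (orbitSub k A (v : V)) := fun v => finite_orbitSub _
    infer_instance
  · intro v hv
    exact Submodule.mem_iSup_of_mem (⟨v, hv⟩ : s) (self_mem_orbitSub v)

end Act

end Groth.Agent.Comod
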