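import Groth.Agent.Comod.GL
import Mathlib.LinearAlgebra.Matrix.Determinant.Basic
import Mathlib.LinearAlgebra.Projection

set_option autoImplicit false
universe u v w w' x

open TensorProduct

namespace Groth.Agent.Comod

section Comatrix

variable {k : Type u} [CommRing k] {A : Type v} [CommRing A] [Bialgebra k A]
variable {ι : Type w} [Fintype ι] [DecidableEq ι]

/-- a multiplicative matrix in a bialgebra -/
structure IsComatrix (M : ι → ι → A) : Prop where
  comul_eq : ∀ i j, Coalgebra.comul (R := k) (M i j) = ∑ l, M i l ⊗ₜ[k] M l j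
  counit_eq : ∀ i j, Coalgebra.counit (R := k) (M i j) = if i = j then 1 else 0

/-- the coaction of a comatrix on coordinate vectors -/
noncomputable def matCoact (M : ι → ι → A) : (ι → k) →ₗ[k] (ι → k) ⊗[k] A :=
  (Pi.basisFun k ι).constr k fun j => ∑ i, (Pi.basisFun k ι) i ⊗ₜ[k] M i j

theorem matCoact_basis (M : ι → ι → A) (j : ι) :
    matCoact (k := k) M (Pi.basisFun k ι j) = ∑ i, (Pi.basisFun k ι) i ⊗ₜ[k] M i j :=
  Module.Basis.constr_basis (Pi.basisFun k ι) k _ j

/-- the comodule attached to a comatrix -/
@[reducible] noncomputable def ofMatrix {M : ι → ι → A} (hM : IsComatrix (k := k) M) :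
    HopfRep.Comod k A (ι → k) where
  coact := matCoact M
  coassoc := by
    apply (Pi.basisFun k ι).ext
    intro j
    simp only [LinearMap.coe_comp, Function.comp_apply, LinearEquiv.coe_coe, matCoact_basis, map_sum,
      LinearMap.rTensor_tmul, TensorProduct.sum_tmul, TensorProduct.assoc_tmul, LinearMap.lTensor_tmul,
      hM.comul_eq, TensorProduct.tmul_sum]
    exact Finset.sum_comm
  counit_comp := by
    apply (Pi.basisFun k ι).ext
    intro j
    simp only [LinearMap.coe_comp, Function.comp_apply, matCoact_basis, map_sum, LinearMap.lTensor_tmul,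
      hM.counit_eq, LinearMap.flip_apply, TensorProduct.mk_apply]
    simp only [tmul_ite, tmul_zero, Finset.sum_ite_eq', Finset.mem_univ, if_true]

/-- coordinates of the image of a vector under the coaction followed by a map -/
theorem slL_proj_matCoact {R : Type x} [AddCommGroup R] [Module k R] (g : A →ₗ[k] R) (M : ι → ι → A)
    (v : ι → k) (i : ι) :
    slL (LinearMap.proj i : (ι → k) →ₗ[k] k) (g.lTensor (ι → k) (matCoact M v)) = ∑ j, v j • g (M i j) := by
  conv_lhs => rw [← (Pi.basisFun k ι).sum_repr v]
  simp only [map_sum, map_smul, matCoact_basis, LinearMap.lTensor_tmul, slL_tmul, LinearMap.proj_apply,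
    Pi.basisFun_repr]
  refine Finset.sum_congr rfl fun j _ => ?_
  rw [Finset.sum_eq_single i]
  · simp
  · intro l _ hl; simp [Pi.single_eq_of_ne' hl]
  · intro hi; exact absurd (Finset.mem_univ i) hi

theorem ext_proj {R : Type x} [AddCommGroup R] [Module k R] {y z : (ι → k) ⊗[k] R}
    (h : ∀ i, slL (LinearMap.proj i : (ι → k) →ₗ[k] k) y = slL (LinearMap.proj i : (ι → k) →ₗ[k] k) z) :
    y = z := by
  have hexp : ∀ x : (ι → k) ⊗[k] R,
      x = ∑ i, (Pi.basisFun k ι) i ⊗ₜ[k] slL (LinearMap.proj i : (ι → k) →ₗ[k] k) x := by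
    intro x
    induction x with
    | zero => simp
    | tmul p q =>
      conv_lhs => rw [← (Pi.basisFun k ι).sum_repr p, TensorProduct.sum_tmul]
      exact Finset.sum_congr rfl fun i _ => by
        simp [TensorProduct.smul_tmul, -Pi.basisFun_apply]
    | add a b ha hb =>
      conv_lhs => rw [ha, hb, ← Finset.sum_add_distrib]
      simp [TensorProduct.tmul_add]
  rw [hexp y, hexp z]
  simp only [h]

theorem IsComatrix.mul {κ : Type w'} [Fintype κ] [DecidableEq κ] {M : ι → ι → A} {N : κ → κ → A}
    (hM : IsComatrix (k := k) M) (hN : IsComatrix (k := k) N) :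
    IsComatrix (k := k) (fun p q : ι × κ => M p.1 q.1 * N p.2 q.2) where
  comul_eq p q := by
    rw [Bialgebra.comul_mul, hM.comul_eq, hN.comul_eq, Finset.sum_mul_sum, Fintype.sum_prod_type]
    simp
  counit_eq p q := by
    rw [Bialgebra.counit_mul, hM.counit_eq, hN.counit_eq]
    simp only [Prod.ext_iff]
    split_ifs <;> simp_all

theorem IsComatrix.pow {κ : Type w'} [Fintype κ] [DecidableEq κ] {M : ι → ι → A} (hM : IsComatrix (k := k) M) :
    IsComatrix (k := k) (fun s t : κ → ι => ∏ i, M (s i) (t i)) where
  comul_eq s t := by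
    show Bialgebra.comulAlgHom k A _ = _
    rw [map_prod]
    simp only [Bialgebra.comulAlgHom_apply, hM.comul_eq]
    rw [Fintype.prod_sum]
    refine Finset.sum_congr rfl fun f _ => ?_
    generalize (Finset.univ : Finset κ) = S
    induction S using Finset.induction_on with
    | empty => simp [Algebra.TensorProduct.one_def]
    | insert a T ha ih => simp [Finset.prod_insert ha, ih]
  counit_eq s t := by
    show Bialgebra.counitAlgHom k A _ = _
    rw [map_prod]
    simp only [Bialgebra.counitAlgHom_apply, hM.counit_eq]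
    by_cases h : s = t
    · subst h; simp
    · obtain ⟨i, hi⟩ := Function.ne_iff.1 h
      rw [if_neg h]
      exact Finset.prod_eq_zero (Finset.mem_univ i) (if_neg hi)

theorem IsComatrix.map {B : Type x} [CommRing B] [Bialgebra k B] {M : ι → ι → A} (hM : IsComatrix (k := k) M)
    (π : A →ₐc[k] B) : IsComatrix (k := k) (fun i j => π (M i j)) where
  comul_eq i j := by
    show Coalgebra.comul (R := k) (π (M i j)) = _
    rw [← CoalgHomClass.map_comp_comul_apply π, hM.comul_eq, map_sum]
    rfl
  counit_eq i j := by
    show Coalgebra.counit (R := k) (π (M i j)) = _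
    rw [CoalgHomClass.counit_comp_apply, hM.counit_eq]

end Comatrix

section Hopf

variable {k : Type u} [CommRing k] {A : Type v} [CommRing A] [HopfAlgebra k A]
variable {ι : Type w} [Fintype ι] [DecidableEq ι]
variable {R : Type x} [CommRing R] [Algebra k R]

theorem IsComatrix.inv_mul {M : ι → ι → A} (hM : IsComatrix (k := k) M) (g : A →ₐ[k] R) (i j : ι) :
    ∑ l, g (HopfAlgebraStruct.antipode k (M i l)) * g (M l j) = if i = j then 1 else 0 := by
  have h := HopfAlgebra.mul_antipode_rTensor_comul_apply (R := k) (M i j)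
  rw [hM.comul_eq, hM.counit_eq, map_sum, map_sum] at h
  simp only [LinearMap.rTensor_tmul, LinearMap.mul'_apply] at h
  simp only [← map_mul, ← map_sum, h]
  split_ifs <;> simp

end Hopf

section Det

variable {R : Type x} [CommRing R] {ι : Type w} [Fintype ι] [DecidableEq ι] {d : ℕ}

/-- expansion of the determinant of a product along the rows of the second factor -/
theorem det_mul_expand (H : Fin d → ι → R) (C : ι → Fin d → R) :
    Matrix.det (Matrix.of fun i j => ∑ l, H i l * C l j) =
      ∑ σ : Fin d → ι, (∏ i, H i (σ i)) * Matrix.det (Matrix.of fun i j => C (σ i) j) := by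
  let f : MultilinearMap R (fun _ : Fin d => Fin d → R) R :=
    (Matrix.detRowAlternating (n := Fin d) (R := R)).toMultilinearMap
  have h : f (fun i => ∑ l, H i l • C l) = ∑ σ : Fin d → ι, f (fun i => H i (σ i) • C (σ i)) := by
    simpa using f.map_sum_finset (fun i l => H i l • C l) (fun _ => Finset.univ)
  have h1 : Matrix.det (Matrix.of fun i j => ∑ l, H i l * C l j) = f (fun i => ∑ l, H i l • C l) := by
    show Matrix.det _ = Matrix.det _
    congr 1
    ext i j
    simp [Matrix.of_apply]
  rw [h1, h]
  refine Finset.sum_congr rfl fun σ _ => ?_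
  rw [MultilinearMap.map_smul_univ, smul_eq_mul]
  rfl

end Det

section Basis

variable {k : Type u} [Field k] {A : Type v} [CommRing A] [Bialgebra k A]
variable {V : Type w} [AddCommGroup V] [Module k V] [HopfRep.Comod k A V]
variable {ι : Type w'} [Fintype ι] [DecidableEq ι]

/-- the matrix of a comodule in a basis -/
noncomputable def matrixOf (b : Module.Basis ι k V) (i j : ι) : A := coeffMap (C := A) (b.coord i) (b j)

omit [DecidableEq ι] in
theorem sum_tmul_coord (b : Module.Basis ι k V) {R : Type x} [AddCommGroup R] [Module k R] (z : V ⊗[k] R) :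
    z = ∑ i, b i ⊗ₜ[k] slL (b.coord i) z := by
  induction z with
  | zero => simp
  | tmul p q =>
    conv_lhs => rw [← b.sum_repr p, TensorProduct.sum_tmul]
    exact Finset.sum_congr rfl fun i _ => by simp [TensorProduct.smul_tmul]
  | add y z hy hz =>
    conv_lhs => rw [hy, hz, ← Finset.sum_add_distrib]
    simp [TensorProduct.tmul_add]

omit [DecidableEq ι] in
theorem coact_basis (b : Module.Basis ι k V) (j : ι) :
    HopfRep.Comod.coact (k := k) (A := A) (b j) = ∑ i, b i ⊗ₜ[k] matrixOf b i j :=
  sum_tmul_coord b _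

theorem isComatrix_matrixOf (b : Module.Basis ι k V) : IsComatrix (k := k) (matrixOf (A := A) b) where
  comul_eq i j := by
    have h := LinearMap.congr_fun (isComodHom_coeffMap (C := A) (V := V) (b.coord i)) (b j)
    simp only [LinearMap.comp_apply] at h
    show Coalgebra.comul (R := k) (coeffMap (C := A) (b.coord i) (b j)) = _
    rw [show Coalgebra.comul (R := k) (coeffMap (C := A) (b.coord i) (b j)) = _ from h, coact_basis b, map_sum]
    rfl
  counit_eq i j := by
    show Coalgebra.counit (R := k) (coeffMap (C := A) (b.coord i) (b j)) = _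
    rw [counit_coeffMap]
    simp [Module.Basis.coord_apply, Finsupp.single_apply, eq_comm]

/-- basis adapted to a subspace -/
theorem exists_basis_adapted [Module.Finite k V] (L : Submodule k V) :
    ∃ (d e : ℕ) (b : Module.Basis (Fin d ⊕ Fin e) k V),
      (∀ i, b (Sum.inl i) ∈ L) ∧ ∀ x ∈ L, ∀ i, b.coord (Sum.inr i) x = 0 := by
  obtain ⟨L', hL⟩ := Submodule.exists_isCompl L
  let b := ((Module.finBasis k L).prod (Module.finBasis k L')).map (Submodule.prodEquivOfIsCompl L L' hL)
  refine ⟨_, _, b, fun i => ?_, fun x hx i => ?_⟩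
  · simp [b, Submodule.coe_prodEquivOfIsCompl']
  · have : (Submodule.prodEquivOfIsCompl L L' hL).symm x = (⟨x, hx⟩, 0) := by
      rw [LinearEquiv.symm_apply_eq]
      simp [Submodule.coe_prodEquivOfIsCompl']
    simp [b, this]

end Basis

end Groth.Agent.Comod
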