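import Groth.Agent.Comod.Coeff

set_option autoImplicit false
universe u v w w' x

open TensorProduct WithConv

namespace Groth.Agent.Comod

variable {k : Type u} [Field k] {C : Type v} [AddCommGroup C] [Module k C] [Coalgebra k C]
variable {V : Type w} [AddCommGroup V] [Module k V] [HopfRep.Comod k C V]

/-- the coefficient space, as a module over the dual algebra, is spanned by the coefficient maps -/
theorem toSub_coeff_eq_iSup :
    toSub (isSubcoalg_coeff (k := k) (C := C) (V := V)).isSubcomod =
      ⨆ ψ : V →ₗ[k] k, LinearMap.range (toHom (isComodHom_coeffMap (C := C) ψ)) := by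
  apply le_antisymm
  · intro b hb
    change b ∈ coeff k C V at hb
    induction hb using Submodule.span_induction with
    | mem x hx =>
      obtain ⟨ψ, v, rfl⟩ := hx
      exact Submodule.mem_iSup_of_mem ψ ⟨v, rfl⟩
    | zero => exact zero_mem _
    | add x y _ _ hx hy => exact add_mem hx hy
    | smul c x _ hx => exact Submodule.smul_of_tower_mem _ c hx
  · exact iSup_le fun ψ => by rintro _ ⟨v, rfl⟩; exact coeffMap_mem_coeff ψ v

/-- a simple submodule of the coefficient space of a simple comodule is a copy of it -/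
theorem linearEquiv_of_le_coeff [IsSimpleModule (DualAlg k C) V] (S : Submodule (DualAlg k C) C)
    [IsSimpleModule (DualAlg k C) S] (h : S.restrictScalars k ≤ coeff k C V) :
    Nonempty (S ≃ₗ[DualAlg k C] V) := by
  let s : Set (Submodule (DualAlg k C) C) :=
    {m | ∃ ψ : V →ₗ[k] k, toHom (isComodHom_coeffMap (C := C) ψ) ≠ 0 ∧
      m = LinearMap.range (toHom (isComodHom_coeffMap (C := C) ψ))}
  haveI : ∀ q : s, IsSimpleModule (DualAlg k C) q := by
    rintro ⟨_, ψ, hψ, rfl⟩
    exact IsSimpleModule.congr (LinearEquiv.ofInjective _ (LinearMap.injective_of_ne_zero hψ)).symm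
  have hle : toSub (isSubcoalg_coeff (k := k) (C := C) (V := V)).isSubcomod ≤ sSup s := by
    rw [toSub_coeff_eq_iSup]
    refine iSup_le fun ψ => ?_
    by_cases hψ : toHom (isComodHom_coeffMap (C := C) ψ) = 0
    · simp [hψ]
    · exact le_sSup ⟨ψ, hψ, rfl⟩
  obtain ⟨_, ⟨ψ, hψ, rfl⟩, ⟨e⟩⟩ := Submodule.linearEquiv_of_le_sSup S s
    (le_trans (show S ≤ toSub (isSubcoalg_coeff (k := k) (C := C) (V := V)).isSubcomod from h) hle)
  exact ⟨e.trans (LinearEquiv.ofInjective _ (LinearMap.injective_of_ne_zero hψ)).symm⟩

/-- isomorphic comodules have the same coefficient space -/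
theorem coeff_congr {W : Type w'} [AddCommGroup W] [Module k W] [HopfRep.Comod k C W]
    (e : V ≃ₗ[DualAlg k C] W) : coeff k C V = coeff k C W :=
  le_antisymm (coeff_le_of_injective (isComodHom_equiv e) e.injective)
    (coeff_le_of_surjective (isComodHom_equiv e) e.surjective)

/-- the comodule structure on a submodule over the dual algebra -/
@[reducible] noncomputable def subComod (S : Submodule (DualAlg k C) V) :
    HopfRep.Comod k C (S.restrictScalars k) :=
  ComodSub.Comod.restr inferInstance _ (isSubcomod_restrictScalars S)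

theorem coeff_restr_le {B : Submodule k C} (hB : IsSubcoalg B) (S : Submodule (DualAlg k C) C)
    (h : S.restrictScalars k ≤ B) :
    @coeff k _ C _ _ _ (S.restrictScalars k) _ _ (subComod S) ≤ B := by
  letI := subComod S
  rw [coeff, Submodule.span_le]
  rintro _ ⟨ψ, v, rfl⟩
  obtain ⟨g, hg⟩ := LinearMap.exists_extend ψ
  rw [← hg, ← slL_rTensor, ComodSub.restr_coact_coe]
  exact hB.slL_mem g (h v.2)

theorem le_coeff_restr (S : Submodule (DualAlg k C) C) :
    S.restrictScalars k ≤ @coeff k _ C _ _ _ (S.restrictScalars k) _ _ (subComod S) := by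
  letI := subComod S
  intro b hb
  have : coeffMap (C := C) ((Coalgebra.counit (R := k)) ∘ₗ (S.restrictScalars k).subtype) ⟨b, hb⟩ = b := by
    rw [coeffMap_apply, ← slL_rTensor, ComodSub.restr_coact_coe]
    exact slL_counit_comul b
  rw [← this]
  exact coeffMap_mem_coeff _ _

/-- the induced module of a submodule is that submodule -/
noncomputable def subLinearEquiv (S : Submodule (DualAlg k C) V) :
    letI := subComod S
    S.restrictScalars k ≃ₗ[DualAlg k C] S :=
  letI := subComod S
  { toFun := fun x => ⟨x.1, x.2⟩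
    invFun := fun x => ⟨x.1, x.2⟩
    map_add' := fun _ _ => rfl
    map_smul' := fun φ x => Subtype.ext
      (IsComodHom.map_actL (ComodSub.isComodHom_subtype _ _ (isSubcomod_restrictScalars S)) φ.ofConv x)
    left_inv := fun _ => rfl
    right_inv := fun _ => rfl }

/-- every nonzero subcomodule of a comodule contains a simple one -/
theorem exists_simple_le {M : Submodule (DualAlg k C) V} (hM : M ≠ ⊥) :
    ∃ S : Submodule (DualAlg k C) V, S ≤ M ∧ IsSimpleModule (DualAlg k C) S := by
  classical
  obtain ⟨v, hv, hv0⟩ := M.ne_bot_iff.1 hM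
  have hfin : Module.Finite k (orbitSub k C v) := finite_orbitSub v
  have hex : ∃ n, ∃ S : Submodule (DualAlg k C) V, S ≤ M ∧ S ≠ ⊥ ∧
      S.restrictScalars k ≤ orbitSub k C v ∧ Module.finrank k (S.restrictScalars k) = n := by
    refine ⟨_, toSub (isSubcomod_orbitSub (k := k) (A := C) v), ?_, ?_, le_rfl, rfl⟩
    · intro x hx
      obtain ⟨φ, rfl⟩ := mem_orbitSub_iff.1 hx
      exact M.smul_mem (toConv φ) hv
    · intro h
      exact hv0 ((Submodule.eq_bot_iff _).1 h v (self_mem_orbitSub v))
  obtain ⟨S, hSM, hS0, hSo, hSn⟩ := Nat.find_spec hex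
  refine ⟨S, hSM, isSimpleModule_iff_isAtom.2 ⟨hS0, fun T hT => ?_⟩⟩
  by_contra hT0
  have : Module.Finite k (S.restrictScalars k) :=
    Module.Finite.of_injective (Submodule.inclusion hSo) (Submodule.inclusion_injective _)
  have hlt : T.restrictScalars k < S.restrictScalars k := lt_of_le_of_ne hT.le fun h =>
    hT.ne (Submodule.restrictScalars_injective k (DualAlg k C) V h)
  have := Submodule.finrank_lt_finrank_of_lt hlt
  rw [hSn] at this
  exact Nat.find_min hex this ⟨T, hT.le.trans hSM, hT0, hlt.le.trans hSo, rfl⟩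

/-- a simple subcoalgebra is the coefficient space of each of its simple subcomodules -/
theorem coeff_sub_eq {D : Submodule k C} (hD : IsSubcoalg D)
    (hs : ∀ B : Submodule k C, B ≤ D → IsSubcoalg B → B = ⊥ ∨ B = D)
    (S : Submodule (DualAlg k C) C) [IsSimpleModule (DualAlg k C) S] (h : S.restrictScalars k ≤ D) :
    @coeff k _ C _ _ _ (S.restrictScalars k) _ _ (subComod S) = D := by
  letI := subComod S
  rcases hs _ (coeff_restr_le hD S h) isSubcoalg_coeff with h' | h'
  · exfalso
    have h0 : S = ⊥ := by
      rw [← Submodule.restrictScalars_eq_bot_iff k]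
      exact le_bot_iff.1 ((le_coeff_restr S).trans h'.le)
    exact (isSimpleModule_iff_isAtom.1 ‹_›).1 h0
  · exact h'

theorem isSemisimpleModule_coeff [IsSimpleModule (DualAlg k C) V] :
    IsSemisimpleModule (DualAlg k C)
      (toSub (isSubcoalg_coeff (k := k) (C := C) (V := V)).isSubcomod) := by
  rw [toSub_coeff_eq_iSup]
  have h : ∀ ψ : V →ₗ[k] k, IsSemisimpleModule (DualAlg k C)
      (LinearMap.range (toHom (isComodHom_coeffMap (C := C) ψ))) := fun ψ =>
    IsSemisimpleModule.of_surjective (LinearMap.rangeRestrict _) (LinearMap.surjective_rangeRestrict _)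
  have := isSemisimpleModule_biSup_of_isSemisimpleModule_submodule (s := Set.univ)
    (p := fun ψ : V →ₗ[k] k => LinearMap.range (toHom (isComodHom_coeffMap (C := C) ψ))) fun ψ _ => h ψ
  rwa [iSup_univ] at this

/-- independence of distinct simple subcoalgebras -/
theorem iSupIndep_simple_subcoalg {ι : Sort*} (D : ι → Submodule k C) (hinj : Function.Injective D)
    (hD : ∀ i, D i ≠ ⊥ ∧ IsSubcoalg (D i) ∧
      ∀ B : Submodule k C, B ≤ D i → IsSubcoalg B → B = ⊥ ∨ B = D i) :
    iSupIndep D := by
  have hsim : ∀ i, ∃ S : Submodule (DualAlg k C) C,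
      S.restrictScalars k ≤ D i ∧ IsSimpleModule (DualAlg k C) S := by
    intro i
    obtain ⟨S, hS, hs⟩ := exists_simple_le (M := toSub (hD i).2.1.isSubcomod)
      (fun h => (hD i).1 ((Submodule.eq_bot_iff _).2 fun x hx => (Submodule.eq_bot_iff _).1 h x hx))
    exact ⟨S, hS, hs⟩
  have hss : ∀ i, IsSemisimpleModule (DualAlg k C) (toSub (hD i).2.1.isSubcomod) := by
    intro i
    obtain ⟨S, hS, hs⟩ := hsim i
    letI := subComod S
    haveI : IsSimpleModule (DualAlg k C) (S.restrictScalars k) := IsSimpleModule.congr (N := S) (subLinearEquiv S)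
    have h := isSemisimpleModule_coeff (k := k) (C := C) (V := S.restrictScalars k)
    have heq := coeff_sub_eq (hD i).2.1 (hD i).2.2 S hS
    have : toSub (isSubcoalg_coeff (k := k) (C := C) (V := S.restrictScalars k)).isSubcomod =
        toSub (hD i).2.1.isSubcomod := SetLike.ext fun x => by rw [mem_toSub, mem_toSub, heq]
    rwa [this] at h
  rw [← iSupIndep_toSub fun i => (hD i).2.1.isSubcomod]
  intro i
  rw [disjoint_iff]
  by_contra hne
  obtain ⟨S, hS, hs⟩ := exists_simple_le hne
  haveI := hs
  let s : Set (Submodule (DualAlg k C) C) := {m | ∃ j, j ≠ i ∧ m = toSub (hD j).2.1.isSubcomod}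
  haveI : ∀ q : s, IsSemisimpleModule (DualAlg k C) q := by rintro ⟨_, j, _, rfl⟩; exact hss j
  obtain ⟨_, ⟨j, hji, rfl⟩, S', hS', ⟨e⟩⟩ := Submodule.le_linearEquiv_of_le_sSup S s
    ((hS.trans inf_le_right).trans (iSup₂_le fun j hj => le_sSup ⟨j, hj, rfl⟩))
  haveI : IsSimpleModule (DualAlg k C) S' := IsSimpleModule.congr (N := S) e.symm
  letI := subComod S
  letI := subComod S'
  have h1 := coeff_sub_eq (hD i).2.1 (hD i).2.2 S (hS.trans inf_le_left)
  have h2 := coeff_sub_eq (hD j).2.1 (hD j).2.2 S' hS'
  have h3 := coeff_congr ((subLinearEquiv S).trans (e.trans (subLinearEquiv S').symm))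
  exact hji (hinj (h2.symm.trans (h3.symm.trans h1)))

/-- every comodule is semisimple when the coalgebra is a semisimple comodule over itself -/
theorem isSemisimpleComod_of_regular (h : IsSemisimpleModule (DualAlg k C) C) :
    HopfRep.IsSemisimpleComod k C V := by
  rw [isSemisimpleComod_iff]
  have hm : ∀ v : V, Hoch.IsComodHom C
      ((Hoch.Ind.equiv k C V).toLinearMap ∘ₗ TensorProduct.mk k V C v) := by
    intro v
    ext c
    show Hoch.Ind.coactAux k C V (v ⊗ₜ c) = (TensorProduct.mk k V C v).rTensor C (Coalgebra.comul (R := k) c)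
    rw [Hoch.Ind.coactAux_tmul]
    generalize Coalgebra.comul (R := k) c = y
    induction y with
    | zero => simp only [map_zero, tmul_zero]
    | tmul p q => rfl
    | add y z hy hz => simp only [tmul_add, map_add, hy, hz]
  have hI : IsSemisimpleModule (DualAlg k C) (Hoch.Ind k C V) := by
    refine isSemisimpleModule_of_isSemisimpleModule_submodule'
      (p := fun v : V => LinearMap.range (toHom (hm v))) (fun v =>
      IsSemisimpleModule.of_surjective (LinearMap.rangeRestrict _) (LinearMap.surjective_rangeRestrict _)) ?_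
    rw [eq_top_iff]
    rintro (x : V ⊗[k] C) -
    induction x with
    | zero => exact zero_mem _
    | tmul a b => exact Submodule.mem_iSup_of_mem a ⟨b, rfl⟩
    | add y z hy hz => exact add_mem hy hz
  have hρ : Hoch.IsComodHom C
      ((Hoch.Ind.equiv k C V).toLinearMap ∘ₗ HopfRep.Comod.coact (k := k) (A := C)) := by
    ext v
    have h2 := LinearMap.congr_fun (HopfRep.Comod.coassoc (k := k) (A := C) (V := V)) v
    simp only [LinearMap.comp_apply, LinearEquiv.coe_coe] at h2
    show Hoch.Ind.coactAux k C V (HopfRep.Comod.coact (k := k) (A := C) v) =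
      (HopfRep.Comod.coact (k := k) (A := C) (V := V)).rTensor C (HopfRep.Comod.coact (k := k) (A := C) v)
    rw [← (TensorProduct.assoc k V C C).symm_apply_apply
      ((HopfRep.Comod.coact (k := k) (A := C) (V := V)).rTensor C _), h2]
    rfl
  refine IsSemisimpleModule.of_injective (toHom hρ) fun a b hab => ?_
  have := congrArg (fun x : Hoch.Ind k C V =>
    slR (Coalgebra.counit (R := k)) ((Hoch.Ind.equiv k C V).symm x)) hab
  simp only [toHom_apply, LinearMap.comp_apply, LinearEquiv.coe_coe, LinearEquiv.symm_apply_apply] at this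
  rwa [← actL_apply, ← actL_apply, actL_counit, actL_counit] at this

end Groth.Agent.Comod
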