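import Groth.Agent.Comod.Coeff
import Groth.Agent.HopfLib.Antipode
import Groth.Prelude.Def_GLin4
import Groth.Prelude.Def_GLin5
import Groth.Prelude.Def_ComodDual

set_option autoImplicit false
universe u v w w'

open TensorProduct

namespace Groth.Agent.Comod

variable {k : Type u} [CommRing k] {A : Type v} [CommRing A] [HopfAlgebra k A]
variable {n : ℕ}

/-- the point of `GL_n` attached to a comatrix -/
theorem isUnit_det_of_comatrix (a : Matrix (Fin n) (Fin n) A)
    (hΔ : ∀ i j, Coalgebra.comul (R := k) (a i j) = ∑ l, a i l ⊗ₜ[k] a l j)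
    (hε : ∀ i j, Coalgebra.counit (R := k) (a i j) = if i = j then 1 else 0) :
    a.det * ((HopfAlgebra.antipodeAlgHom k A).mapMatrix a).det = 1 := by
  rw [← Matrix.det_mul, ← Matrix.det_one (R := A) (n := Fin n)]
  congr 1
  ext i j
  have h := HopfAlgebra.mul_antipode_lTensor_comul_apply (R := k) (a i j)
  rw [hΔ, map_sum, map_sum, hε] at h
  simp only [LinearMap.lTensor_tmul, LinearMap.mul'_apply] at h
  rw [Matrix.mul_apply, Matrix.one_apply]
  simp only [AlgHom.mapMatrix_apply, Matrix.map_apply, HopfAlgebra.antipodeAlgHom_apply]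
  rw [h]
  split_ifs <;> simp

theorem glAlgHom_ext {B : Type w} [CommRing B] [Algebra k B] {g g' : CoordGrp.GLn n k →ₐ[k] B}
    (h : ∀ i j, g (CoordGrp.GLn.X i j) = g' (CoordGrp.GLn.X i j)) : g = g' := by
  refine CoordGrp.GLn.algHom_ext h ?_
  have hd : g CoordGrp.GLn.det = g' CoordGrp.GLn.det := by
    rw [CoordGrp.GLn.det_eq, AlgHom.map_det, AlgHom.map_det]
    exact congrArg Matrix.det (Matrix.ext h)
  refine left_inv_eq_right_inv (a := g CoordGrp.GLn.det) ?_ ?_
  · rw [← map_mul, CoordGrp.GLn.Dinv_mul_det, map_one]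
  · rw [hd, ← map_mul, CoordGrp.GLn.det_mul_Dinv, map_one]

/-- bialgebra map out of `GL_n` given by a comatrix -/
noncomputable def glHom (a : Matrix (Fin n) (Fin n) A)
    (hΔ : ∀ i j, Coalgebra.comul (R := k) (a i j) = ∑ l, a i l ⊗ₜ[k] a l j)
    (hε : ∀ i j, Coalgebra.counit (R := k) (a i j) = if i = j then 1 else 0) :
    CoordGrp.GLn n k →ₐc[k] A :=
  let f := CoordGrp.GLn.pt n k a _ (isUnit_det_of_comatrix a hΔ hε)
  BialgHom.ofAlgHom f
    (glAlgHom_ext fun i j => by simp [f, hε, CoordGrp.GLn.counit_X])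
    (glAlgHom_ext fun i j => by simp [f, hΔ, CoordGrp.GLn.comul_X])

theorem glHom_X (a : Matrix (Fin n) (Fin n) A)
    (hΔ : ∀ i j, Coalgebra.comul (R := k) (a i j) = ∑ l, a i l ⊗ₜ[k] a l j)
    (hε : ∀ i j, Coalgebra.counit (R := k) (a i j) = if i = j then 1 else 0) (i j : Fin n) :
    glHom a hΔ hε (CoordGrp.GLn.X i j) = a i j :=
  CoordGrp.GLn.pt_X a _ (isUnit_det_of_comatrix a hΔ hε) i j

/-- the product of two morphisms into the regular comodule -/
theorem isComodHom_mul {V : Type w} [AddCommGroup V] [Module k V] {W : Type w'} [AddCommGroup W] [Module k W]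
    (c : HopfRep.Comod k A V) (d : HopfRep.Comod k A W) {f : V →ₗ[k] A} {g : W →ₗ[k] A}
    (hf : @Hoch.IsComodHom k _ A _ _ _ V _ _ c A _ _ (HopfRep.Comod.regular k A) f)
    (hg : @Hoch.IsComodHom k _ A _ _ _ W _ _ d A _ _ (HopfRep.Comod.regular k A) g) :
    @Hoch.IsComodHom k _ A _ _ _ (V ⊗[k] W) _ _ (ComodTens.Comod.tensor c d) A _ _
      (HopfRep.Comod.regular k A) (LinearMap.mul' k A ∘ₗ TensorProduct.map f g) := by
  refine TensorProduct.ext' fun v w => ?_
  have hv := LinearMap.congr_fun hf v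
  have hw := LinearMap.congr_fun hg w
  simp only [LinearMap.comp_apply] at hv hw ⊢
  rw [TensorProduct.map_tmul, LinearMap.mul'_apply]
  show Coalgebra.comul (R := k) (f v * g w) = _
  rw [Bialgebra.comul_mul, show Coalgebra.comul (R := k) (f v) = _ from hv,
    show Coalgebra.comul (R := k) (g w) = _ from hw, ComodTens.tensor_coact_tmul]
  generalize c.coact v = x
  generalize d.coact w = y
  induction x with
  | zero => simp
  | tmul p q =>
    induction y with
    | zero => simp
    | tmul s t => simp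
    | add y z hy hz => simp only [map_add, TensorProduct.tmul_add, mul_add, hy, hz]
  | add y z hy hz => simp only [map_add, TensorProduct.add_tmul, add_mul, hy, hz]

theorem isComodHom_ofEquiv {A : Type v} [AddCommGroup A] [Module k A] [Coalgebra k A]
    {V : Type w} [AddCommGroup V] [Module k V] {W : Type w'} [AddCommGroup W] [Module k W]
    (e : V ≃ₗ[k] W) (c : HopfRep.Comod k A V) {U : Type*} [AddCommGroup U] [Module k U]
    [HopfRep.Comod k A U] {f : V →ₗ[k] U}
    (hf : @Hoch.IsComodHom k _ A _ _ _ V _ _ c U _ _ inferInstance f) :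
    @Hoch.IsComodHom k _ A _ _ _ W _ _ (ComodTens.Comod.ofEquiv e c) U _ _ inferInstance
      (f ∘ₗ e.symm.toLinearMap) := by
  apply LinearMap.ext
  intro x
  obtain ⟨v, rfl⟩ := e.surjective x
  have hv := LinearMap.congr_fun hf v
  simp only [LinearMap.comp_apply, LinearEquiv.coe_coe, LinearEquiv.symm_apply_apply] at hv ⊢
  rw [ComodTens.ofEquiv_coact_apply, hv, ← LinearMap.rTensor_comp_apply, LinearMap.comp_assoc]
  show f.rTensor A (c.coact v) = _
  congr 2
  ext y
  simp

/-- the span of the images of all morphisms from the tensor powers of a comodule into the regular comodule -/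
noncomputable def tpowImage {U : Type w} [AddCommGroup U] [Module k U] (cU : HopfRep.Comod k A U) :
    Submodule k A :=
  Submodule.span k {a | ∃ (m : ℕ) (h : TensorPower k m U →ₗ[k] A),
    @Hoch.IsComodHom k _ A _ _ _ _ _ _ (ComodTens.Comod.tpow cU m) A _ _ (HopfRep.Comod.regular k A) h ∧
      a ∈ LinearMap.range h}

theorem one_mem_tpowImage {U : Type w} [AddCommGroup U] [Module k U] (cU : HopfRep.Comod k A U) :
    (1 : A) ∈ tpowImage cU := by
  refine Submodule.subset_span ⟨0, Algebra.linearMap k A ∘ₗ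
    (PiTensorProduct.isEmptyEquiv (Fin 0) (R := k) (s := fun _ : Fin 0 => U)).symm.symm.toLinearMap, ?_,
    (PiTensorProduct.isEmptyEquiv (Fin 0) (R := k) (s := fun _ : Fin 0 => U)).symm 1, by simp⟩
  letI : HopfRep.Comod k A k := HopfRep.Comod.trivial k A k
  refine isComodHom_ofEquiv (U := A) _ _ (f := Algebra.linearMap k A) (LinearMap.ext_ring ?_)
  show Coalgebra.comul (R := k) (algebraMap k A 1) = (Algebra.linearMap k A).rTensor A ((1 : k) ⊗ₜ[k] (1 : A))
  simp [Algebra.TensorProduct.one_def]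

theorem mul_mem_tpowImage {U : Type w} [AddCommGroup U] [Module k U] (cU : HopfRep.Comod k A U)
    {g : U →ₗ[k] A} (hg : @Hoch.IsComodHom k _ A _ _ _ U _ _ cU A _ _ (HopfRep.Comod.regular k A) g)
    {a : A} (ha : a ∈ tpowImage cU) (u : U) : a * g u ∈ tpowImage cU := by
  induction ha using Submodule.span_induction with
  | mem x hx =>
    obtain ⟨m, h, hh, y, rfl⟩ := hx
    let e1 := (PiTensorProduct.subsingletonEquiv (R := k) (s := fun _ : Fin 1 => U) (0 : Fin 1)).symm
    let em := TensorPower.mulEquiv (R := k) (M := U) (n := m) (m := 1)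
    refine Submodule.subset_span ⟨m + 1,
      (LinearMap.mul' k A ∘ₗ TensorProduct.map h (g ∘ₗ e1.symm.toLinearMap)) ∘ₗ em.symm.toLinearMap, ?_,
      em (y ⊗ₜ e1 u), ?_⟩
    · exact isComodHom_ofEquiv em _ (isComodHom_mul _ _ hh (isComodHom_ofEquiv e1 cU hg))
    · simp [LinearMap.comp_apply]
  | zero => simp
  | add x y _ _ hx hy => rw [add_mul]; exact add_mem hx hy
  | smul c x _ hx => rw [smul_mul_assoc]; exact Submodule.smul_mem _ c hx

theorem adjoin_le_tpowImage {U : Type w} [AddCommGroup U] [Module k U] (cU : HopfRep.Comod k A U)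
    (s : Set A)
    (hs : ∀ x ∈ s, ∃ g : U →ₗ[k] A,
      @Hoch.IsComodHom k _ A _ _ _ U _ _ cU A _ _ (HopfRep.Comod.regular k A) g ∧ x ∈ LinearMap.range g)
    {x : A} (hx : x ∈ Algebra.adjoin k s) : x ∈ tpowImage cU := by
  have key : ∀ a ∈ tpowImage cU, a * x ∈ tpowImage cU := by
    induction hx using Algebra.adjoin_induction with
    | mem y hy =>
      obtain ⟨g, hg, u, rfl⟩ := hs y hy
      exact fun a ha => mul_mem_tpowImage cU hg ha u
    | algebraMap c =>
      intro a ha
      rw [← Algebra.commutes, ← Algebra.smul_def]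
      exact Submodule.smul_mem _ c ha
    | add y z _ _ hy hz => intro a ha; rw [mul_add]; exact add_mem (hy a ha) (hz a ha)
    | mul y z _ _ hy hz => intro a ha; rw [← mul_assoc]; exact hz _ (hy a ha)
  simpa using key 1 (one_mem_tpowImage cU)

end Groth.Agent.Comod
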