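import Groth.Agent.Comod.Cosemisimple
import Groth.Agent.HopfLib.Antipode

set_option autoImplicit false
universe u v w

open TensorProduct WithConv

namespace Groth.Agent.Comod

section Integral

variable {k : Type u} [CommRing k] {A : Type v} [CommRing A] [HopfAlgebra k A]

/-- a right invariant functional on a Hopf algebra -/
def IsIntegral (α : A →ₗ[k] k) : Prop :=
  ∀ a : A, slL α (Coalgebra.comul (R := k) a) = α a • (1 : A)

theorem isIntegral_of_isComodHom {α : A →ₗ[k] k}
    (hα : @Hoch.IsComodHom k _ A _ _ _ A _ _ _ k _ _ (HopfRep.Comod.trivial k A k) α) : IsIntegral α := by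
  intro a
  have h := LinearMap.congr_fun hα a
  simp only [LinearMap.comp_apply] at h
  have h' : TensorProduct.lid k A ((α a) ⊗ₜ[k] (1 : A)) =
      TensorProduct.lid k A (α.rTensor A (Coalgebra.comul (R := k) a)) := congrArg _ h
  rw [TensorProduct.lid_tmul] at h'
  exact h'.symm

/-- `a ⊗ b ↦ α (S a * b)` -/
noncomputable def intPair (α : A →ₗ[k] k) : A →ₗ[k] A →ₗ[k] k :=
  LinearMap.mk₂ k (fun b a => α (HopfAlgebraStruct.antipode k a * b))
    (fun b b' a => by simp [mul_add]) (fun c b a => by simp [mul_smul_comm])
    (fun b a a' => by simp [add_mul]) (fun c b a => by simp [smul_mul_assoc])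

@[simp] theorem intPair_apply (α : A →ₗ[k] k) (b a : A) :
    intPair α b a = α (HopfAlgebraStruct.antipode k a * b) := rfl

theorem slR_intPair_comul {α : A →ₗ[k] k} (hα : IsIntegral α) (a b : A) :
    slR (intPair α b) (Coalgebra.comul (R := k) a) =
      TensorProduct.lid k A (((intPair α).flip a).rTensor A (Coalgebra.comul (R := k) b)) := by
  let S := HopfAlgebraStruct.antipode k (A := A)
  let G : A ⊗[k] (A ⊗[k] A) →ₗ[k] A :=
    TensorProduct.lift ((LinearMap.mul k A).compl₂
      (TensorProduct.lift (LinearMap.mk₂ k
        (fun a₂ a₃ => slL α ((S a₃ ⊗ₜ[k] S a₂) * Coalgebra.comul (R := k) b))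
        (fun x y z => by rw [map_add, TensorProduct.tmul_add, add_mul, map_add])
        (fun c x z => by rw [map_smul, TensorProduct.tmul_smul, smul_mul_assoc, map_smul])
        (fun x y z => by rw [map_add, TensorProduct.add_tmul, add_mul, map_add])
        (fun c x z => by rw [map_smul, ← TensorProduct.smul_tmul', smul_mul_assoc, map_smul]))))
  have h1 : ∀ x : A ⊗[k] A, slR (intPair α b) x = G ((Coalgebra.comul (R := k) (A := A)).lTensor A x) := by
    intro x
    induction x with
    | zero => simp
    | tmul p q =>
      rw [slR_tmul, intPair_apply, LinearMap.lTensor_tmul]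
      have hq : α (S q * b) • (1 : A) = slL α (Coalgebra.comul (R := k) (S q) * Coalgebra.comul (R := k) b) := by
        rw [← Bialgebra.comul_mul, hα]
      have hG : ∀ y : A ⊗[k] A, G (p ⊗ₜ y) =
          p * slL α (TensorProduct.map S S (TensorProduct.comm k A A y) * Coalgebra.comul (R := k) b) := by
        intro y
        induction y with
        | zero => simp
        | tmul s t => simp [G]
        | add y z hy hz => simp only [TensorProduct.tmul_add, map_add, hy, hz, add_mul, mul_add]
      rw [hG, ← Groth.Agent.HopfLib.comul_antipode, ← hq, mul_smul_comm, mul_one]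
    | add y z hy hz => simp only [map_add, hy, hz]
  have h2 : ∀ (x : A ⊗[k] A) (z : A), G (TensorProduct.assoc k A A A (x ⊗ₜ z)) =
      LinearMap.mul' k A ((S).lTensor A x) * slL α ((S z ⊗ₜ[k] (1 : A)) * Coalgebra.comul (R := k) b) := by
    intro x z
    induction x with
    | zero => simp
    | tmul s t =>
      have hpull : ∀ (y : A ⊗[k] A) (c : A), slL α ((S z ⊗ₜ[k] c) * y) = c * slL α ((S z ⊗ₜ[k] (1 : A)) * y) := by
        intro y c
        induction y with
        | zero => simp
        | tmul p q => simp [mul_smul_comm]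
        | add y y' hy hy' => simp only [mul_add, map_add, hy, hy']
      simp only [G, TensorProduct.assoc_tmul, TensorProduct.lift.tmul, LinearMap.compl₂_apply,
        LinearMap.mul_apply', LinearMap.mk₂_apply, LinearMap.lTensor_tmul, LinearMap.mul'_apply]
      rw [hpull _ (S t)]
      ring
    | add y y' hy hy' => simp only [TensorProduct.add_tmul, map_add, add_mul, hy, hy']
  rw [h1, ← Coalgebra.coassoc_apply]
  have h3 : ∀ x : A ⊗[k] A, G (TensorProduct.assoc k A A A ((Coalgebra.comul (R := k) (A := A)).rTensor A x)) =
      slL α ((S (slL (Coalgebra.counit (R := k)) x) ⊗ₜ[k] (1 : A)) * Coalgebra.comul (R := k) b) := by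
    intro x
    induction x with
    | zero => simp
    | tmul p q =>
      rw [LinearMap.rTensor_tmul, h2, HopfAlgebra.mul_antipode_lTensor_comul_apply,
        slL_tmul, map_smul, ← TensorProduct.smul_tmul', smul_mul_assoc, map_smul, Algebra.smul_def]
    | add y z hy hz => simp only [map_add, TensorProduct.add_tmul, add_mul, hy, hz]
  have hc : slL (Coalgebra.counit (R := k)) (Coalgebra.comul (R := k) a) = a := by simp [slL]
  rw [h3, hc]
  generalize Coalgebra.comul (R := k) b = y
  induction y with
  | zero => simp
  | tmul p q => simp [S]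
  | add y z hy hz => simp only [mul_add, map_add, hy, hz]

variable {V : Type w} [AddCommGroup V] [Module k V] [HopfRep.Comod k A V]

/-- averaging of a linear endomorphism against an integral -/
noncomputable def avgAux (α : A →ₗ[k] k) (r : V →ₗ[k] V) : V ⊗[k] A →ₗ[k] V :=
  TensorProduct.lift (LinearMap.mk₂ k (fun w b => actL (A := A) (intPair α b) (r w))
    (fun x y b => by simp) (fun c x b => by simp)
    (fun x b b' => by simp [actL_map_add]) (fun c x b => by simp [actL_map_smul]))

theorem isComodHom_avg {α : A →ₗ[k] k} (hα : IsIntegral α) (r : V →ₗ[k] V) :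
    Hoch.IsComodHom A (avgAux α r ∘ₗ HopfRep.Comod.coact (k := k) (A := A)) := by
  ext v
  have hco := fun v => LinearMap.congr_fun (HopfRep.Comod.coassoc (k := k) (A := A) (V := V)) v
  simp only [LinearMap.comp_apply, LinearEquiv.coe_coe] at hco ⊢
  set ρ := HopfRep.Comod.coact (k := k) (A := A) (V := V)
  -- the averaging map commutes with the coactions
  have key : ∀ x : V ⊗[k] A, ρ (avgAux α r x) =
      (avgAux α r).rTensor A ((TensorProduct.assoc k V A A).symm ((Coalgebra.comul (R := k)).lTensor V x)) := by
    intro x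
    induction x with
    | zero => simp
    | tmul w b =>
      have h1 : ∀ x : V ⊗[k] A, ρ (slR (intPair α b) x) =
          (slR (intPair α b)).lTensor V (TensorProduct.assoc k V A A (ρ.rTensor A x)) := by
        intro x
        induction x with
        | zero => simp
        | tmul a c =>
          rw [slR_tmul, map_smul, LinearMap.rTensor_tmul]
          generalize ρ a = y
          induction y with
          | zero => simp
          | tmul s t => simp [TensorProduct.smul_tmul']
          | add y z hy hz => simp only [map_add, TensorProduct.add_tmul, smul_add, hy, hz]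
        | add y z hy hz => simp only [map_add, hy, hz]
      show ρ (slR (intPair α b) (ρ (r w))) = _
      rw [h1, hco, ← LinearMap.comp_apply, ← LinearMap.lTensor_comp, LinearMap.lTensor_tmul]
      have h2 : (slR (intPair α b) ∘ₗ Coalgebra.comul (R := k)) =
          (TensorProduct.lid k A).toLinearMap ∘ₗ (LinearMap.rTensorHom A ∘ₗ (intPair α).flip).flip
            (Coalgebra.comul (R := k) b) := by
        ext a
        exact slR_intPair_comul hα a b
      rw [h2]
      generalize Coalgebra.comul (R := k) b = y
      generalize hz : ρ (r w) = z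
      induction y with
      | zero =>
        have : ((TensorProduct.lid k A).toLinearMap ∘ₗ
            (LinearMap.rTensorHom A ∘ₗ (intPair α).flip).flip 0) = 0 := by ext a; simp
        simp [this]
      | tmul p q =>
        rw [TensorProduct.assoc_symm_tmul, LinearMap.rTensor_tmul]
        show _ = slR (intPair α p) (ρ (r w)) ⊗ₜ[k] q
        rw [hz]
        clear hz
        induction z with
        | zero => simp
        | tmul s t => simp [TensorProduct.smul_tmul]
        | add y z hy hz => simp only [map_add, TensorProduct.add_tmul, hy, hz]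
      | add y y' hy hy' =>
        have : ((TensorProduct.lid k A).toLinearMap ∘ₗ
            (LinearMap.rTensorHom A ∘ₗ (intPair α).flip).flip (y + y')) =
          ((TensorProduct.lid k A).toLinearMap ∘ₗ (LinearMap.rTensorHom A ∘ₗ (intPair α).flip).flip y) +
          ((TensorProduct.lid k A).toLinearMap ∘ₗ (LinearMap.rTensorHom A ∘ₗ (intPair α).flip).flip y') := by
          ext a; simp
        rw [this, LinearMap.lTensor_add, LinearMap.add_apply, hy, hy']
        simp only [TensorProduct.tmul_add, map_add]
    | add y z hy hz => simp only [map_add, hy, hz]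
  rw [key, ← hco, LinearEquiv.symm_apply_apply, ← LinearMap.comp_apply, ← LinearMap.rTensor_comp]

theorem avg_mem {α : A →ₗ[k] k} {r : V →ₗ[k] V} {W : Submodule k V}
    (hW : HopfRep.IsSubcomod (k := k) (A := A) W) (hr : ∀ v, r v ∈ W) (x : V ⊗[k] A) :
    avgAux α r x ∈ W := by
  induction x with
  | zero => simp
  | tmul w b => exact IsSubcomod.actL_mem hW (intPair α b) (hr w)
  | add y z hy hz => simpa only [map_add] using add_mem hy hz

theorem avg_apply_of_mem {α : A →ₗ[k] k} (h1 : α 1 = 1) {r : V →ₗ[k] V} {W : Submodule k V}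
    (hW : HopfRep.IsSubcomod (k := k) (A := A) W) (hr : ∀ v ∈ W, r v = v) {v : V} (hv : v ∈ W) :
    avgAux α r (HopfRep.Comod.coact (k := k) (A := A) v) = v := by
  obtain ⟨y, hy⟩ := hW v hv
  have h0 : avgAux α r (HopfRep.Comod.coact (k := k) (A := A) v) =
      avgAux α LinearMap.id (HopfRep.Comod.coact (k := k) (A := A) v) := by
    rw [← hy]
    clear hy
    induction y with
    | zero => simp
    | tmul a b => simp [avgAux, hr a a.2]
    | add y z hy hz => simp only [map_add, hy, hz]
  rw [h0]
  let G : V ⊗[k] (A ⊗[k] A) →ₗ[k] V :=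
    slR ((TensorProduct.lift ((intPair α).flip)))
  have h2 : ∀ x : V ⊗[k] A, avgAux α LinearMap.id x =
      G (TensorProduct.assoc k V A A ((HopfRep.Comod.coact (k := k) (A := A)).rTensor A x)) := by
    intro x
    induction x with
    | zero => simp
    | tmul a b =>
      simp only [avgAux, TensorProduct.lift.tmul, LinearMap.mk₂_apply, LinearMap.id_apply, LinearMap.rTensor_tmul]
      rw [actL_apply]
      generalize HopfRep.Comod.coact (k := k) (A := A) a = z
      induction z with
      | zero => simp
      | tmul s t => simp [G]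
      | add y z hy hz => simp only [map_add, TensorProduct.add_tmul, hy, hz]
    | add y z hy hz => simp only [map_add, hy, hz]
  rw [h2]
  have hco := LinearMap.congr_fun (HopfRep.Comod.coassoc (k := k) (A := A) (V := V)) v
  simp only [LinearMap.comp_apply, LinearEquiv.coe_coe] at hco
  rw [hco]
  have h3 : ∀ (x : V ⊗[k] A), G ((Coalgebra.comul (R := k)).lTensor V x) =
      slR (Coalgebra.counit (R := k)) x := by
    intro x
    induction x with
    | zero => simp
    | tmul a b =>
      rw [LinearMap.lTensor_tmul, slR_tmul]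
      simp only [G, slR_tmul]
      congr 1
      have h4 : ∀ z : A ⊗[k] A, TensorProduct.lift ((intPair α).flip) z =
          α (LinearMap.mul' k A ((HopfAlgebraStruct.antipode k).rTensor A z)) := by
        intro z
        induction z with
        | zero => simp
        | tmul s t => simp
        | add y z hy hz => simp only [map_add, hy, hz]
      rw [h4, HopfAlgebra.mul_antipode_rTensor_comul_apply, Algebra.algebraMap_eq_smul_one, map_smul, h1,
        smul_eq_mul, mul_one]
    | add y z hy hz => simp only [map_add, hy, hz]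
  rw [h3, ← actL_apply, actL_counit]

end Integral

section Field

variable {k : Type u} [Field k] {A : Type v} [CommRing A] [HopfAlgebra k A]
variable {V : Type w} [AddCommGroup V] [Module k V] [HopfRep.Comod k A V]

/-- an integral with `α 1 = 1` makes every comodule semisimple -/
theorem isSemisimpleComod_of_integral {α : A →ₗ[k] k} (hα : IsIntegral α) (h1 : α 1 = 1) :
    HopfRep.IsSemisimpleComod k A V := by
  intro W hW
  obtain ⟨p, hp⟩ := LinearMap.exists_leftInverse_of_injective W.subtype (Submodule.ker_subtype W)
  let r : V →ₗ[k] V := W.subtype ∘ₗ p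
  let f : V →ₗ[k] V := avgAux α r ∘ₗ HopfRep.Comod.coact (k := k) (A := A)
  have hmem : ∀ v, f v ∈ W := fun v => avg_mem hW (fun v => (p v).2) _
  have hfix : ∀ v ∈ W, f v = v := fun v hv => avg_apply_of_mem h1 hW (fun v hv => by
    have := LinearMap.congr_fun hp ⟨v, hv⟩
    exact congrArg Subtype.val this) hv
  refine ⟨LinearMap.ker f, isSubcomod_ker (isComodHom_avg hα r), ?_, ?_⟩
  · rw [Submodule.disjoint_def]
    intro v hv hv'
    rw [← hfix v hv, LinearMap.mem_ker.1 hv']
  · rw [codisjoint_iff, eq_top_iff]
    intro v _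
    refine Submodule.mem_sup.2 ⟨f v, hmem v, v - f v, ?_, by abel⟩
    rw [LinearMap.mem_ker, map_sub, hfix _ (hmem v), sub_self]

end Field

section Trace

variable {k : Type u} [CommRing k] {A : Type v} [CommRing A] [HopfAlgebra k A]
variable [Module.Free k A] [Module.Finite k A]

/-- the trace of multiplication is an invariant functional -/
theorem isIntegral_trace : IsIntegral (Algebra.trace k A) := by
  intro a
  let iL : A →ₐ[k] A ⊗[k] A := Algebra.TensorProduct.includeLeft
  let iR : A →ₐ[k] A ⊗[k] A := Algebra.TensorProduct.includeRight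
  let S := HopfAlgebra.antipodeAlgHom k A
  let cm : A ⊗[k] A →ₐ[k] A ⊗[k] A := (Algebra.TensorProduct.comm k A A).toAlgHom
  let Φ : A ⊗[k] A →ₐ[A] A ⊗[k] A :=
    Algebra.TensorProduct.lift (Algebra.ofId A (A ⊗[k] A)) (cm.comp (Bialgebra.comulAlgHom k A))
      fun _ _ => Commute.all _ _
  let Φk : A ⊗[k] A →ₐ[k] A ⊗[k] A := Φ.restrictScalars k
  open Groth.Agent.FinHopf in
  have hcomp : ∀ (f : A →ₐ[k] A ⊗[k] A) (g : A ⊗[k] A →ₐ[k] A ⊗[k] A),
      postComp g (toConv f) = toConv (g.comp f) := fun _ _ => rfl
  have hΦL : Φk.comp iL = iL := by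
    apply AlgHom.ext
    intro x
    show Φ (x ⊗ₜ[k] (1 : A)) = x ⊗ₜ[k] (1 : A)
    simp [Φ]
  have hΦR : Φk.comp iR = cm.comp (Bialgebra.comulAlgHom k A) := by
    apply AlgHom.ext
    intro x
    show Φ ((1 : A) ⊗ₜ[k] x) = _
    simp only [Φ, Algebra.TensorProduct.lift_tmul, map_one, one_mul]
  let g : A →ₐ[k] A ⊗[k] A := (toConv iR * toConv (iL.comp S)).ofConv
  have hg : toConv (Φk.comp g) = toConv iR := by
    rw [← hcomp]
    show Groth.Agent.FinHopf.postComp Φk (toConv iR * toConv (iL.comp S)) = _
    rw [map_mul, hcomp, hcomp, ← AlgHom.comp_assoc, hΦL, hΦR]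
    have h1 : toConv (cm.comp (Bialgebra.comulAlgHom k A)) = toConv iR * toConv iL := by
      rw [← hcomp, ← Groth.Agent.HopfLib.incl_mul_incl, map_mul, hcomp, hcomp]
      have e1 : cm.comp iL = iR := by ext x; simp [cm, iL, iR]
      have e2 : cm.comp iR = iL := by ext x; simp [cm, iL, iR]
      rw [e1, e2]
    rw [h1, mul_assoc]
    have h2 : toConv iL * toConv (iL.comp S) = 1 := by
      have e : toConv iL = Groth.Agent.FinHopf.postComp iL (toConv (AlgHom.id k A)) := by
        apply WithConv.ofConv_injective; ext c; rfl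
      have e' : toConv (iL.comp S) = Groth.Agent.FinHopf.postComp iL (toConv S) := rfl
      rw [e, e', ← map_mul, ← Groth.Agent.HopfLib.id_inv, mul_inv_cancel, map_one]
    rw [h2, mul_one]
  have hsurj : Function.Surjective Φ := by
    intro x
    induction x with
    | zero => exact ⟨0, map_zero _⟩
    | tmul p q =>
      refine ⟨(p ⊗ₜ[k] (1 : A)) * g q, ?_⟩
      have hq : Φ (g q) = (1 : A) ⊗ₜ[k] q := DFunLike.congr_fun (congrArg WithConv.ofConv hg) q
      rw [map_mul, hq]
      simp [Φ]
    | add y z hy hz =>
      obtain ⟨a, ha⟩ := hy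
      obtain ⟨b, hb⟩ := hz
      exact ⟨a + b, by rw [map_add, ha, hb]⟩
  have hbij : Function.Bijective Φ := OrzechProperty.bijective_of_surjective_endomorphism Φ.toLinearMap hsurj
  have ht : ∀ x : A ⊗[k] A, Algebra.trace A (A ⊗[k] A) x =
      TensorProduct.rid k A ((Algebra.trace k A).lTensor A x) := by
    intro x
    induction x with
    | zero => simp
    | tmul p q =>
      have : (p ⊗ₜ[k] q : A ⊗[k] A) = p • ((1 : A) ⊗ₜ[k] q) := by
        rw [TensorProduct.smul_tmul', smul_eq_mul, mul_one]
      rw [this, map_smul, ← this, Algebra.trace_apply]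
      have hl : Algebra.lmul A (A ⊗[k] A) ((1 : A) ⊗ₜ[k] q) = (Algebra.lmul k A q).baseChange A := by
        ext x
        simp
      rw [show (Algebra.lmul A (A ⊗[k] A) ((1 : A) ⊗ₜ[k] q) : Module.End A (A ⊗[k] A)) = _ from hl,
        LinearMap.trace_baseChange, LinearMap.lTensor_tmul, TensorProduct.rid_tmul, Algebra.trace_apply,
        smul_eq_mul, Algebra.smul_def, mul_comm]
    | add y z hy hz => simp only [map_add, hy, hz]
  have h := Algebra.trace_eq_of_algEquiv (AlgEquiv.ofBijective Φ hbij) ((1 : A) ⊗ₜ[k] a)
  rw [AlgEquiv.coe_ofBijective] at h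
  have hΦa : Φ ((1 : A) ⊗ₜ[k] a) = TensorProduct.comm k A A (Coalgebra.comul (R := k) a) :=
    DFunLike.congr_fun hΦR a
  rw [hΦa, ht, ht] at h
  have h4 : ∀ y : A ⊗[k] A, TensorProduct.rid k A ((Algebra.trace k A).lTensor A (TensorProduct.comm k A A y)) =
      slL (Algebra.trace k A) y := by
    intro y
    induction y with
    | zero => simp
    | tmul p q => simp
    | add y z hy hz => simp only [map_add, hy, hz]
  rw [h4] at h
  rw [h]
  simp

end Trace

end Groth.Agent.Comod
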