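import Groth.Agent.Comod.Subcoalg
import Groth.Prelude.Def_ComodSub

set_option autoImplicit false
universe u v w w'

open TensorProduct WithConv

namespace Groth.Agent.Comod

variable {k : Type u} [CommRing k] {A : Type v} [AddCommGroup A] [Module k A] [Coalgebra k A]
variable {V : Type w} [AddCommGroup V] [Module k V] [HopfRep.Comod k A V]
variable {W : Type w'} [AddCommGroup W] [Module k W] [HopfRep.Comod k A W]

/-- the dual algebra of a coalgebra, with the convolution product -/
abbrev DualAlg (k : Type u) (A : Type v) [CommRing k] [AddCommGroup A] [Module k A] :=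
  WithConv (A →ₗ[k] k)

theorem toConv_mul_toConv (φ ψ : A →ₗ[k] k) :
    (toConv φ * toConv ψ : DualAlg k A) = toConv (conv φ ψ) := by
  rw [LinearMap.convMul_def]
  congr 1

theorem conv_eq_mul (φ ψ : DualAlg k A) : (φ * ψ).ofConv = conv φ.ofConv ψ.ofConv := by
  have := congrArg WithConv.ofConv (toConv_mul_toConv φ.ofConv ψ.ofConv)
  simpa using this

theorem actL_map_add (φ ψ : A →ₗ[k] k) (v : V) : actL (φ + ψ) v = actL φ v + actL ψ v := by
  simp [actL, slR, LinearMap.lTensor_add]

theorem actL_map_smul (c : k) (φ : A →ₗ[k] k) (v : V) : actL (c • φ) v = c • actL φ v := by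
  simp [actL, slR, LinearMap.lTensor_smul]

theorem ofConv_one' : (1 : DualAlg k A).ofConv = Coalgebra.counit (R := k) (A := A) := by
  ext a
  simp [LinearMap.convOne_def]

/-- a comodule as a module over the dual algebra -/
noncomputable scoped instance dualModule : Module (DualAlg k A) V where
  smul φ v := actL φ.ofConv v
  one_smul v := by
    show actL (1 : DualAlg k A).ofConv v = v
    rw [ofConv_one', actL_counit]
  mul_smul φ ψ v := by
    show actL (φ * ψ).ofConv v = actL φ.ofConv (actL ψ.ofConv v)
    rw [conv_eq_mul, actL_actL]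
  smul_zero φ := map_zero _
  smul_add φ v w := map_add _ _ _
  add_smul φ ψ v := actL_map_add φ.ofConv ψ.ofConv v
  zero_smul v := by
    show actL (0 : DualAlg k A).ofConv v = 0
    simp [actL, slR]

theorem dual_smul_def (φ : DualAlg k A) (v : V) : φ • v = actL φ.ofConv v := rfl

noncomputable scoped instance dualModule_tower : IsScalarTower k (DualAlg k A) V :=
  ⟨fun c φ v => actL_map_smul c φ.ofConv v⟩

/-- a comodule map as a linear map over the dual algebra -/
noncomputable def toHom {f : V →ₗ[k] W} (hf : Hoch.IsComodHom A f) : V →ₗ[DualAlg k A] W where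
  toFun := f
  map_add' := map_add f
  map_smul' φ v := IsComodHom.map_actL hf φ.ofConv v

@[simp] theorem toHom_apply {f : V →ₗ[k] W} (hf : Hoch.IsComodHom A f) (v : V) : toHom hf v = f v := rfl

theorem isComodHom_zero : Hoch.IsComodHom A (0 : V →ₗ[k] W) := by
  simp [Hoch.IsComodHom]

theorem isComodHom_id : Hoch.IsComodHom A (LinearMap.id : V →ₗ[k] V) := by
  simp [Hoch.IsComodHom]

variable [Module.Free k A]

theorem isComodHom_restrictScalars (f : V →ₗ[DualAlg k A] W) :
    Hoch.IsComodHom A (f.restrictScalars k) :=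
  isComodHom_iff.2 fun φ v => f.map_smul (toConv φ) v

theorem isSubcomod_restrictScalars (M : Submodule (DualAlg k A) V) :
    HopfRep.IsSubcomod (k := k) (A := A) (M.restrictScalars k) :=
  isSubcomod_iff.2 fun φ _ hv => M.smul_mem (toConv φ) hv

/-- a subcomodule as a submodule over the dual algebra -/
noncomputable def toSub {M : Submodule k V} (hM : HopfRep.IsSubcomod (k := k) (A := A) M) :
    Submodule (DualAlg k A) V :=
  { M.toAddSubmonoid with smul_mem' := fun φ _ hv => IsSubcomod.actL_mem hM φ.ofConv hv }

omit [Module.Free k A] in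
@[simp] theorem mem_toSub {M : Submodule k V} (hM : HopfRep.IsSubcomod (k := k) (A := A) M) {v : V} :
    v ∈ toSub hM ↔ v ∈ M := Iff.rfl

omit [Module.Free k A] in
theorem restrictScalars_toSub {M : Submodule k V} (hM : HopfRep.IsSubcomod (k := k) (A := A) M) :
    (toSub hM).restrictScalars k = M := rfl

variable (k A V) in
/-- subcomodules are the submodules over the dual algebra -/
noncomputable def subEquiv :
    Submodule (DualAlg k A) V ≃o {M : Submodule k V // HopfRep.IsSubcomod (k := k) (A := A) M} where
  toFun M := ⟨M.restrictScalars k, isSubcomod_restrictScalars M⟩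
  invFun M := toSub M.2
  left_inv _ := rfl
  right_inv _ := rfl
  map_rel_iff' := Iff.rfl

omit [Module.Free k A] in
theorem isCompl_restrictScalars_iff {M N : Submodule (DualAlg k A) V} :
    IsCompl (M.restrictScalars k) (N.restrictScalars k) ↔ IsCompl M N := by
  simp only [isCompl_iff, Submodule.disjoint_def, codisjoint_iff, Submodule.restrictScalars_mem]
  refine and_congr Iff.rfl ?_
  rw [← Submodule.restrictScalars_sup, Submodule.restrictScalars_eq_top_iff]

theorem isSimpleComod_iff : HopfRep.IsSimpleComod k A V ↔ IsSimpleModule (DualAlg k A) V := by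
  constructor
  · rintro ⟨hn, h⟩
    refine { toIsSimpleOrder := { eq_bot_or_eq_top := fun M => ?_ } }
    rcases h _ (isSubcomod_restrictScalars M) with h | h
    · exact .inl ((Submodule.restrictScalars_eq_bot_iff ..).1 h)
    · exact .inr ((Submodule.restrictScalars_eq_top_iff ..).1 h)
  · intro h
    refine ⟨IsSimpleModule.nontrivial (DualAlg k A) V, fun M hM => ?_⟩
    rcases eq_bot_or_eq_top (toSub hM) with h | h
    · exact .inl ((Submodule.restrictScalars_eq_bot_iff k (DualAlg k A) V (p := toSub hM)).2 h)
    · exact .inr ((Submodule.restrictScalars_eq_top_iff k (DualAlg k A) V (p := toSub hM)).2 h)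

theorem isSimpleModule_toSub_iff {M : Submodule k V} (hM : HopfRep.IsSubcomod (k := k) (A := A) M) :
    IsSimpleModule (DualAlg k A) (toSub hM) ↔
      M ≠ ⊥ ∧ ∀ W' : Submodule k V, HopfRep.IsSubcomod (k := k) (A := A) W' → W' ≤ M → W' = ⊥ ∨ W' = M := by
  rw [isSimpleModule_iff_isAtom]
  refine ⟨fun h => ⟨fun h0 => h.1 ?_, fun W' hW' hle => ?_⟩, fun h => ⟨fun h0 => h.1 ?_, fun N hN => ?_⟩⟩
  · subst h0; ext x; simp
  · rcases h.le_iff.1 (show toSub hW' ≤ toSub hM from hle) with h | h
    · exact .inl (SetLike.ext fun x => SetLike.ext_iff.1 h x)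
    · exact .inr (SetLike.ext fun x => SetLike.ext_iff.1 h x)
  · exact SetLike.ext fun x => SetLike.ext_iff.1 h0 x
  · rcases h.2 _ (isSubcomod_restrictScalars N) (show N.restrictScalars k ≤ M from hN.le) with h | h
    · exact (Submodule.restrictScalars_eq_bot_iff ..).1 h
    · exact absurd (show N = toSub hM from SetLike.ext fun x => by
        rw [← Submodule.restrictScalars_mem k N, h, mem_toSub]) hN.ne

theorem isSemisimpleComod_iff : HopfRep.IsSemisimpleComod k A V ↔ IsSemisimpleModule (DualAlg k A) V := by
  rw [isSemisimpleModule_iff, complementedLattice_iff]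
  refine ⟨fun h M => ?_, fun h M hM => ?_⟩
  · obtain ⟨N, hN, hc⟩ := h _ (isSubcomod_restrictScalars M)
    exact ⟨toSub hN, isCompl_restrictScalars_iff.1 (by simpa [restrictScalars_toSub] using hc)⟩
  · obtain ⟨N, hc⟩ := h (toSub hM)
    exact ⟨N.restrictScalars k, isSubcomod_restrictScalars N, isCompl_restrictScalars_iff.2 hc⟩

theorem finite_of_isSimpleComod [IsNoetherianRing k] (h : HopfRep.IsSimpleComod k A V) :
    Module.Finite k V := by
  obtain ⟨hn, h⟩ := h
  obtain ⟨v, hv⟩ := exists_ne (0 : V)
  rcases h _ (isSubcomod_orbitSub v) with h' | h'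
  · exact absurd ((Submodule.eq_bot_iff _).1 h' v (self_mem_orbitSub v)) hv
  · have := finite_orbitSub (k := k) (A := A) v
    exact Module.Finite.of_surjective (orbitSub k A v).subtype
      fun x => ⟨⟨x, by rw [h']; trivial⟩, rfl⟩

/-- the coefficient space of a comodule -/
noncomputable def coeff (k : Type u) [CommRing k] (A : Type v) [AddCommGroup A] [Module k A] [Coalgebra k A]
    (V : Type w) [AddCommGroup V] [Module k V] [HopfRep.Comod k A V] : Submodule k A :=
  Submodule.span k {a | ∃ (ψ : V →ₗ[k] k) (v : V), slL ψ (HopfRep.Comod.coact (k := k) (A := A) v) = a}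

end Groth.Agent.Comod
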