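import Groth.Agent.Comod.Integral
import Groth.Prelude.Def_W4c1tameactTame

set_option autoImplicit false
universe u v w w' w''

open TensorProduct

namespace Groth.Agent.Comod

variable {k : Type u} [CommRing k] {A : Type v} [CommRing A] [HopfAlgebra k A]
variable {B : Type w} [CommRing B] [Algebra k B] [HopfRep.Comod k A B]

section

variable (M : Type w') [AddCommGroup M] [Module k M] [Module B M] [IsScalarTower k B M]
  [HopfRep.Comod k A M]

/-- `(m, a) ↦ Σ α (S m₁ * a) • m₀` -/
noncomputable def tameAvg (α : A →ₗ[k] B) : M ⊗[k] A →ₗ[k] M :=
  TensorProduct.lift (LinearMap.mk₂ k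
    (fun m a => TensorProduct.lift
      ((Algebra.lsmul k k M : B →ₐ[k] Module.End k M).toLinearMap ∘ₗ α ∘ₗ
        (LinearMap.mulRight k a) ∘ₗ (HopfAlgebraStruct.antipode (R := k) (A := A))).flip
      (HopfRep.Comod.coact (k := k) (A := A) m))
    (fun m m' a => by simp only [map_add])
    (fun c m a => by simp only [map_smul])
    (fun m a a' => by
      generalize HopfRep.Comod.coact (k := k) (A := A) m = x
      induction x with
      | zero => simp
      | tmul p q => simp [mul_add, add_smul]
      | add y z hy hz => simp only [map_add, hy, hz]; abel)
    (fun c m a => by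
      generalize HopfRep.Comod.coact (k := k) (A := A) m = x
      induction x with
      | zero => simp
      | tmul p q => simp [mul_smul_comm, smul_assoc]
      | add y z hy hz => simp only [map_add, hy, hz, smul_add]))

theorem tameAvg_tmul (α : A →ₗ[k] B) (m : M) (a : A) :
    tameAvg M α (m ⊗ₜ a) = TensorProduct.lift
      ((Algebra.lsmul k k M : B →ₐ[k] Module.End k M).toLinearMap ∘ₗ α ∘ₗ
        (LinearMap.mulRight k a) ∘ₗ (HopfAlgebraStruct.antipode (R := k) (A := A))).flip
      (HopfRep.Comod.coact (k := k) (A := A) m) := rfl

theorem tameAvg_tmul_one (α : A →ₗ[k] B) (m : M) :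
    tameAvg M α (m ⊗ₜ (1 : A)) = TameAct.reynolds k A B M α m := by
  rw [tameAvg_tmul, TameAct.reynolds, LinearMap.comp_apply]
  generalize HopfRep.Comod.coact (k := k) (A := A) m = x
  induction x with
  | zero => simp
  | tmul p q => simp
  | add y z hy hz => simp only [map_add, hy, hz]

variable {M}

/-- the averaging map is a morphism from the induced comodule -/
theorem coact_tameAvg [TameAct.IsHopfMod k A B M] {α : A →ₗ[k] B} (hα : Hoch.IsComodHom A α)
    (x : M ⊗[k] A) :
    HopfRep.Comod.coact (k := k) (A := A) (tameAvg M α x) =
      (tameAvg M α).rTensor A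
        ((TensorProduct.assoc k M A A).symm ((Coalgebra.comul (R := k)).lTensor M x)) := by
  induction x with
  | zero => simp
  | add y z hy hz => simp only [map_add, hy, hz]
  | tmul m a =>
    let S := HopfAlgebraStruct.antipode k (A := A)
    let ρ := HopfRep.Comod.coact (k := k) (A := A) (V := M)
    let L : A →ₗ[k] M →ₗ[k] M :=
      (Algebra.lsmul k k M : B →ₐ[k] Module.End k M).toLinearMap ∘ₗ α
    let K : A ⊗[k] A → M ⊗[k] (A ⊗[k] A) →ₗ[k] M ⊗[k] A := fun y =>
      TensorProduct.lift
        { toFun := fun m' => TensorProduct.lift (LinearMap.mk₂ k
            (fun b c => TameAct.hmSMul k A B M (α.rTensor A (Coalgebra.comul (R := k) (S c) * y)) (m' ⊗ₜ b))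
            (fun b b' c => by simp only [TensorProduct.tmul_add, map_add])
            (fun r b c => by simp only [TensorProduct.tmul_smul, map_smul])
            (fun b c c' => by simp only [map_add, add_mul, LinearMap.add_apply])
            (fun r b c => by simp only [map_smul, smul_mul_assoc, LinearMap.smul_apply]))
          map_add' := fun p q => by
            ext b c
            simp [TensorProduct.add_tmul]
          map_smul' := fun r p => by
            ext b c
            simp [← TensorProduct.smul_tmul'] }
    have h1 : ∀ x : M ⊗[k] A,
        ρ (TensorProduct.lift (L ∘ₗ (LinearMap.mulRight k a) ∘ₗ S).flip x) =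
          K (Coalgebra.comul (R := k) a) (TensorProduct.assoc k M A A (ρ.rTensor A x)) := by
      intro x
      induction x with
      | zero => simp
      | tmul p c =>
        have hcm := TameAct.IsHopfMod.coact_smul (k := k) (A := A) (α (S c * a)) p
        have hh := LinearMap.congr_fun hα (S c * a)
        simp only [LinearMap.comp_apply] at hh
        change ρ (α (S c * a) • p) = _
        rw [hcm, hh, LinearMap.rTensor_tmul]
        show TameAct.hmSMul k A B M (α.rTensor A (Coalgebra.comul (R := k) (S c * a))) (ρ p) = _
        rw [Bialgebra.comul_mul]
        generalize ρ p = z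
        induction z with
        | zero => simp
        | tmul s t => simp [K]
        | add y z hy hz => simp only [map_add, TensorProduct.add_tmul, hy, hz]
      | add y z hy hz => simp only [map_add, hy, hz]
    have hco := LinearMap.congr_fun (HopfRep.Comod.coassoc (k := k) (A := A) (V := M)) m
    simp only [LinearMap.comp_apply, LinearEquiv.coe_coe] at hco
    rw [tameAvg_tmul, LinearMap.lTensor_tmul]
    show ρ (TensorProduct.lift (L ∘ₗ (LinearMap.mulRight k a) ∘ₗ S).flip (ρ m)) = _
    rw [h1, hco]
    generalize hy : Coalgebra.comul (R := k) a = y
    clear hy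
    induction y with
    | zero =>
      have : ∀ x, K 0 x = 0 := fun x => by
        induction x with
        | zero => simp
        | tmul p z =>
          induction z with
          | zero => simp
          | tmul b c => simp [K]
          | add y z hy hz => simp only [TensorProduct.tmul_add, map_add, hy, hz, add_zero]
        | add y z hy hz => simp only [map_add, hy, hz, add_zero]
      simp [this]
    | add y y' hy hy' =>
      have : ∀ x, K (y + y') x = K y x + K y' x := fun x => by
        induction x with
        | zero => simp
        | tmul p z =>
          induction z with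
          | zero => simp
          | tmul b c => simp [K, mul_add]
          | add y z hy hz => simp only [TensorProduct.tmul_add, map_add, hy, hz]; abel
        | add y z hy hz => simp only [map_add, hy, hz]; abel
      simp only [this, hy, hy', TensorProduct.tmul_add, map_add]
    | tmul p q =>
      rw [TensorProduct.assoc_symm_tmul, LinearMap.rTensor_tmul, tameAvg_tmul]
      generalize HopfRep.Comod.coact (k := k) (A := A) (V := M) m = z
      induction z with
      | zero => simp
      | add y z hy hz => simp only [map_add, TensorProduct.add_tmul, hy, hz]
      | tmul m' c =>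
        rw [LinearMap.lTensor_tmul]
        have hK : ∀ w : A ⊗[k] A, K (p ⊗ₜ q) (m' ⊗ₜ w) =
            TensorProduct.lift (LinearMap.mk₂ k
              (fun b c => TameAct.hmSMul k A B M
                (α.rTensor A (TensorProduct.map S S (TensorProduct.comm k A A (Coalgebra.comul (R := k) c)) * (p ⊗ₜ q)))
                (m' ⊗ₜ b))
              (fun b b' c => by simp only [TensorProduct.tmul_add, map_add])
              (fun r b c => by simp only [TensorProduct.tmul_smul, map_smul])
              (fun b c c' => by simp only [map_add, add_mul, LinearMap.add_apply])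
              (fun r b c => by simp only [map_smul, smul_mul_assoc, LinearMap.smul_apply])) w := by
          intro w
          induction w with
          | zero => simp
          | tmul b c => simp [K, S, Groth.Agent.HopfLib.comul_antipode]
          | add y z hy hz => simp only [TensorProduct.tmul_add, map_add, hy, hz]
        rw [hK]
        let H : A ⊗[k] (A ⊗[k] A) →ₗ[k] M ⊗[k] A :=
          TensorProduct.lift (LinearMap.mk₂ k
            (fun b z => TensorProduct.lift (LinearMap.mk₂ k
              (fun s t => (α (S t * p) • m') ⊗ₜ[k] (S s * q * b))
              (fun s s' t => by simp [add_mul, TensorProduct.tmul_add])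
              (fun r s t => by simp [smul_mul_assoc, TensorProduct.tmul_smul])
              (fun s t t' => by simp [add_mul, add_smul, TensorProduct.add_tmul])
              (fun r s t => by simp [smul_mul_assoc, smul_assoc, TensorProduct.smul_tmul'])) z)
            (fun b b' z => by
              induction z with
              | zero => simp
              | tmul s t => simp [mul_add, TensorProduct.tmul_add]
              | add y z hy hz => simp only [map_add, hy, hz]; abel)
            (fun r b z => by
              induction z with
              | zero => simp
              | tmul s t => simp [mul_smul_comm, TensorProduct.tmul_smul]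
              | add y z hy hz => simp only [map_add, hy, hz, smul_add])
            (fun b z z' => by simp only [map_add])
            (fun r b z => by simp only [map_smul]))
        have h5 : ∀ w : A ⊗[k] A,
            TensorProduct.lift (LinearMap.mk₂ k
              (fun b c => TameAct.hmSMul k A B M
                (α.rTensor A (TensorProduct.map S S (TensorProduct.comm k A A (Coalgebra.comul (R := k) c)) * (p ⊗ₜ q)))
                (m' ⊗ₜ b))
              (fun b b' c => by simp only [TensorProduct.tmul_add, map_add])
              (fun r b c => by simp only [TensorProduct.tmul_smul, map_smul])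
              (fun b c c' => by simp only [map_add, add_mul, LinearMap.add_apply])
              (fun r b c => by simp only [map_smul, smul_mul_assoc, LinearMap.smul_apply])) w =
            H ((Coalgebra.comul (R := k) (A := A)).lTensor A w) := by
          intro w
          induction w with
          | zero => simp
          | tmul b e =>
            rw [LinearMap.lTensor_tmul]
            simp only [TensorProduct.lift.tmul, LinearMap.mk₂_apply, H]
            generalize Coalgebra.comul (R := k) e = v
            induction v with
            | zero => simp
            | tmul s t => simp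
            | add y z hy hz => simp only [map_add, add_mul, LinearMap.add_apply, hy, hz]
          | add y z hy hz => simp only [map_add, hy, hz]
        rw [h5, ← Coalgebra.coassoc_apply]
        have h6 : ∀ (w : A ⊗[k] A) (t : A), H (TensorProduct.assoc k A A A (w ⊗ₜ t)) =
            (α (S t * p) • m') ⊗ₜ[k] (LinearMap.mul' k A ((S).lTensor A w) * q) := by
          intro w t
          induction w with
          | zero => simp
          | tmul b s => simp [H]; congr 1; ring
          | add y z hy hz => simp only [TensorProduct.add_tmul, map_add, add_mul, TensorProduct.tmul_add, hy, hz]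
        have h7 : ∀ w : A ⊗[k] A, H (TensorProduct.assoc k A A A ((Coalgebra.comul (R := k) (A := A)).rTensor A w)) =
            (α (S (slL (Coalgebra.counit (R := k)) w) * p) • m') ⊗ₜ[k] q := by
          intro w
          induction w with
          | zero => simp
          | tmul s t =>
            rw [LinearMap.rTensor_tmul, h6, HopfAlgebra.mul_antipode_lTensor_comul_apply, slL_tmul,
              ← Algebra.smul_def, map_smul, smul_mul_assoc, map_smul, smul_assoc]
            rw [TensorProduct.tmul_smul, TensorProduct.smul_tmul']
          | add y z hy hz =>
            simp only [map_add, TensorProduct.add_tmul, add_mul, add_smul, hy, hz]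
        rw [h7]
        have hc : slL (Coalgebra.counit (R := k)) (Coalgebra.comul (R := k) c) = c := by simp [slL]
        rw [hc]
        simp [S]

theorem isComodHom_tameAvg [TameAct.IsHopfMod k A B M] {α : A →ₗ[k] B} (hα : Hoch.IsComodHom A α) :
    Hoch.IsComodHom A (tameAvg M α ∘ₗ (Hoch.Ind.equiv k A M).symm.toLinearMap) :=
  LinearMap.ext fun x => coact_tameAvg hα ((Hoch.Ind.equiv k A M).symm x)

theorem tameAvg_coact {α : A →ₗ[k] B} (h1 : α 1 = 1) (m : M) :
    tameAvg M α (HopfRep.Comod.coact (k := k) (A := A) m) = m := by
  let G : M ⊗[k] (A ⊗[k] A) →ₗ[k] M :=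
    TensorProduct.lift ((Algebra.lsmul k k M : B →ₐ[k] Module.End k M).toLinearMap.flip.compl₂
      (α ∘ₗ LinearMap.mul' k A ∘ₗ (HopfAlgebraStruct.antipode (R := k) (A := A)).rTensor A))
  have h2 : ∀ x : M ⊗[k] A, tameAvg M α x =
      G (TensorProduct.assoc k M A A ((HopfRep.Comod.coact (k := k) (A := A)).rTensor A x)) := by
    intro x
    induction x with
    | zero => simp
    | tmul a b =>
      rw [tameAvg_tmul, LinearMap.rTensor_tmul]
      generalize HopfRep.Comod.coact (k := k) (A := A) a = z
      induction z with
      | zero => simp
      | tmul s t => simp [G]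
      | add y z hy hz => simp only [map_add, TensorProduct.add_tmul, hy, hz]
    | add y z hy hz => simp only [map_add, hy, hz]
  have hco := LinearMap.congr_fun (HopfRep.Comod.coassoc (k := k) (A := A) (V := M)) m
  simp only [LinearMap.comp_apply, LinearEquiv.coe_coe] at hco
  rw [h2, hco]
  have h3 : ∀ x : M ⊗[k] A, G ((Coalgebra.comul (R := k)).lTensor M x) = slR (Coalgebra.counit (R := k)) x := by
    intro x
    induction x with
    | zero => simp
    | tmul a b =>
      simp only [G, LinearMap.lTensor_tmul, TensorProduct.lift.tmul, LinearMap.compl₂_apply,
        LinearMap.comp_apply, LinearMap.flip_apply, HopfAlgebra.mul_antipode_rTensor_comul_apply,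
        Algebra.algebraMap_eq_smul_one, map_smul, h1, slR_tmul]
      simp
    | add y z hy hz => simp only [map_add, hy, hz]
  rw [h3, ← actL_apply, actL_counit]

theorem reynolds_mem_fixedPts [TameAct.IsHopfMod k A B M] {α : A →ₗ[k] B} (hα : Hoch.IsComodHom A α)
    (m : M) : TameAct.reynolds k A B M α m ∈ HopfRep.fixedPts k A M := by
  show HopfRep.Comod.coact (k := k) (A := A) _ = _ ⊗ₜ[k] (1 : A)
  rw [← tameAvg_tmul_one, coact_tameAvg hα, LinearMap.lTensor_tmul, Bialgebra.comul_one,
    Algebra.TensorProduct.one_def, TensorProduct.assoc_symm_tmul, LinearMap.rTensor_tmul]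

theorem reynolds_eq_self {α : A →ₗ[k] B} (h1 : α 1 = 1) {m : M} (hm : m ∈ HopfRep.fixedPts k A M) :
    TameAct.reynolds k A B M α m = m := by
  rw [← tameAvg_tmul_one, show m ⊗ₜ[k] (1 : A) = HopfRep.Comod.coact (k := k) (A := A) m from hm.symm,
    tameAvg_coact h1]

theorem reynolds_mem_subcomod {α : A →ₗ[k] B} {W : Submodule B M}
    (hW : HopfRep.IsSubcomod (k := k) (A := A) (W.restrictScalars k)) {m : M} (hm : m ∈ W) :
    TameAct.reynolds k A B M α m ∈ W := by
  obtain ⟨y, hy⟩ := hW m hm
  rw [TameAct.reynolds, LinearMap.comp_apply, ← hy]
  clear hy
  induction y with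
  | zero => simp
  | tmul a b => simpa using W.smul_mem _ a.2
  | add y z hy hz => simpa only [map_add] using add_mem hy hz

end

section Alg

variable [GLin.IsCoactAlg k A B]

instance isHopfMod_self : TameAct.IsHopfMod k A B B := ⟨fun b m => by
  rw [smul_eq_mul, GLin.IsCoactAlg.coact_mul (k := k)]
  generalize HopfRep.Comod.coact (k := k) (A := A) b = x
  generalize HopfRep.Comod.coact (k := k) (A := A) m = y
  induction x with
  | zero => simp
  | tmul p q =>
    induction y with
    | zero => simp
    | tmul s t => simp
    | add y z hy hz => simp only [mul_add, map_add, hy, hz]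
  | add y z hy hz => simp only [add_mul, map_add, LinearMap.add_apply, hy, hz]⟩

variable {M : Type w'} [AddCommGroup M] [Module k M] [Module B M] [IsScalarTower k B M]
  [HopfRep.Comod k A M] [TameAct.IsHopfMod k A B M]

theorem coact_smul_invariant {c : B} (hc : c ∈ GLin.invariants k A B) (m : M) :
    HopfRep.Comod.coact (k := k) (A := A) (c • m) =
      ((Algebra.lsmul k k M : B →ₐ[k] Module.End k M) c).rTensor A (HopfRep.Comod.coact (k := k) (A := A) m) := by
  rw [TameAct.IsHopfMod.coact_smul, (GLin.mem_invariants_iff k A B c).1 hc]
  generalize HopfRep.Comod.coact (k := k) (A := A) m = y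
  induction y with
  | zero => simp
  | tmul s t => simp
  | add y z hy hz => simp only [map_add, hy, hz]

theorem reynolds_smul_invariant (α : A →ₗ[k] B) {c : B} (hc : c ∈ GLin.invariants k A B) (m : M) :
    TameAct.reynolds k A B M α (c • m) = c • TameAct.reynolds k A B M α m := by
  simp only [TameAct.reynolds, LinearMap.comp_apply, coact_smul_invariant hc]
  generalize HopfRep.Comod.coact (k := k) (A := A) m = y
  induction y with
  | zero => simp
  | tmul s t =>
    simp only [LinearMap.rTensor_tmul, TensorProduct.lift.tmul, LinearMap.flip_apply, LinearMap.comp_apply,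
      AlgHom.toLinearMap_apply, Algebra.lsmul_coe]
    exact smul_comm _ _ _
  | add y z hy hz => simp only [map_add, smul_add, hy, hz]

omit [GLin.IsCoactAlg k A B] [TameAct.IsHopfMod k A B M] [HopfRep.Comod k A B] in
theorem map_reynolds {N : Type w''} [AddCommGroup N] [Module k N] [Module B N] [IsScalarTower k B N]
    [HopfRep.Comod k A N] (α : A →ₗ[k] B) (f : M →ₗ[B] N) (hf : Hoch.IsComodHom A (f.restrictScalars k))
    (m : M) : f (TameAct.reynolds k A B M α m) = TameAct.reynolds k A B N α (f m) := by
  have h := LinearMap.congr_fun hf m
  simp only [LinearMap.comp_apply, LinearMap.restrictScalars_apply] at h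
  simp only [TameAct.reynolds, LinearMap.comp_apply, h]
  generalize HopfRep.Comod.coact (k := k) (A := A) m = y
  induction y with
  | zero => simp
  | tmul s t => simp
  | add y z hy hz => simp only [map_add, hy, hz]

end Alg

end Groth.Agent.Comod
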